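import Groth.Agent.Subtr.K835.Stage
import Groth.Agent.Lim.K339.SepModel
import Groth.Agent.EGA43.K132.SmoothProperFib
import Groth.Agent.S2577
import Groth.Agent.S1339
import Groth.Agent.Ega43.GeomFibre
import Groth.Agent.Flat2D.GeomFib
import Groth.Agent.Ega4fib.H179.Basic

/-!
# Properness from the fibres, over an arbitrary base

`isProper`: a flat separated surjective morphism of finite presentation with geometrically connected
proper fibres is proper.
-/

set_option autoImplicit false
universe u
open CategoryTheory CategoryTheory.Limits AlgebraicGeometry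

namespace K983.ProperFib

open Groth.Agent.CalgA.LimFP K835.Stage

/-- The locus of points with proper fibre is locally constructible. -/
theorem isLocallyConstructible_proper {X S : Scheme.{u}} (f : X ⟶ S)
    [LocallyOfFinitePresentation f] [QuasiCompact f] [QuasiSeparated f] :
    Topology.IsLocallyConstructible {s : S | IsProper (f.fiberToSpecResidueField s)} := by
  have h := Groth.Agent.S2577.result f (𝟙 S)
  convert h using 1
  ext s
  simp only [Set.mem_ofPred_eq]
  rw [← MorphismProperty.cancel_right_of_respectsIso (P := @IsProper) _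
    (pullback.snd (𝟙 S) (S.fromSpecResidueField s)), pullback.lift_snd]
  have key : ∀ (g : X ⟶ S), g = f → (IsProper (f.fiberToSpecResidueField s) ↔
      IsProper (pullback.snd g (S.fromSpecResidueField s))) := by
    rintro _ rfl
    exact Iff.rfl
  exact key _ (Category.comp_id f)

theorem isProper_of_compact {X S : Scheme.{u}} (f : X ⟶ S) [CompactSpace S] [QuasiSeparatedSpace S]
    [Flat f] [LocallyOfFinitePresentation f] [QuasiCompact f] [IsSeparated f] [Surjective f]
    [GeometricallyConnected f] (hpr : ∀ y, IsProper (f.fiberToSpecResidueField y)) : IsProper f := by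
  obtain ⟨I, _, _, D, c, hc, e, i₀, Y₀, g₀, q, sq, hs, hl, hq, hD, hN⟩ := K339.SepModel.exists_model f
  have hqs : ∀ i, QuasiSeparatedSpace (D.obj i) := fun i => inferInstance
  let M₀ : Mdl (f ≫ e.inv) i₀ := ⟨Y₀, g₀, q, sq, hl, hq, inferInstance⟩
  have hM₀ : IsSeparated M₀.f := hs
  obtain ⟨i₁, a₁, h₁⟩ := exists_up hc descends_flat (f' := f ≫ e.inv) inferInstance M₀
  obtain ⟨i₂, a₂, h₂⟩ := exists_up hc Groth.Agent.Ega43.LimSurj.descends_surjective
    (f' := f ≫ e.inv) inferInstance (M₀.bc a₁)
  have hM₁ : IsSeparated (M₀.bc a₁).f := bc_prop M₀ hM₀ a₁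
  obtain ⟨M₂, hM₂⟩ : ∃ M, M = (M₀.bc a₁).bc a₂ := ⟨_, rfl⟩
  have s₂ : IsSeparated M₂.f := by
    rw [hM₂]
    exact bc_prop (P := @IsSeparated) (M₀.bc a₁) hM₁ a₂
  have t₂ : Flat M₂.f := by
    rw [hM₂]
    exact bc_prop (P := @Flat) (M₀.bc a₁) h₁ a₂
  have u₂ : Surjective M₂.f := by
    rw [hM₂]
    exact h₂
  have v₂ := M₂.lfp
  have w₂ := M₂.qc
  have sq₀ : IsPullback (𝟙 _) (f ≫ e.inv) f e.hom := IsPullback.of_horiz_isIso ⟨by simp⟩
  have hgc : GeometricallyConnected (f ≫ e.inv) :=
    MorphismProperty.of_isPullback (P := @GeometricallyConnected) sq₀ inferInstance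
  have hgcf : ∀ s, GeometricallyConnected ((f ≫ e.inv).fiberToSpecResidueField s) := by
    intro s
    rw [GeometricallyConnected.iff_geometricallyConnected_fiber] at hgc
    exact hgc s
  have hpr' : ∀ s, IsProper ((f ≫ e.inv).fiberToSpecResidueField s) := by
    intro s
    exact (Groth.Agent.Ega4fib.H179.Basic.isProper_fiber_iff f (f ≫ e.inv) (𝟙 _) e.hom sq₀ s).mpr
      (hpr _)
  have hT : Topology.IsLocallyConstructible
      ({s : D.obj i₂ | IsProper (M₂.f.fiberToSpecResidueField s)} ∩
        {s : D.obj i₂ | MoreMor.nGeomConnComp M₂.f s = 1}) :=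
    (isLocallyConstructible_proper M₂.f).inter (Groth.Agent.S1339.result M₂.f 1)
  have hT' : Topology.IsConstructible
      ({s : D.obj i₂ | IsProper (M₂.f.fiberToSpecResidueField s)} ∩
        {s : D.obj i₂ | MoreMor.nGeomConnComp M₂.f s = 1}) := hT.isConstructible
  obtain ⟨i₃, a₃, h₃⟩ := Groth.Agent.Ega43.LimSurj.exists_preimage_eq_empty_of_isConstructible D c hc i₂
    _ hT'.compl (by
      rw [Set.eq_empty_iff_forall_notMem]
      intro s hs'
      refine hs' ⟨?_, ?_⟩
      · exact (Groth.Agent.Ega4fib.H179.Basic.isProper_fiber_iff M₂.f (f ≫ e.inv) M₂.p (c.π.app i₂)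
          M₂.h s).mp (hpr' s)
      · change MoreMor.nGeomConnComp M₂.f _ = 1
        rw [← Groth.Agent.Flat2D.GeomFib.nGeomConnComp_baseChange _ _ _ _ M₂.h]
        exact Groth.Agent.Ega43.GeomFibre.nGeomConnComp_eq_one _ _ (hgcf s))
  rw [Set.eq_empty_iff_forall_notMem] at h₃
  have h₃' : ∀ y, D.map a₃ y ∈ ({s : D.obj i₂ | IsProper (M₂.f.fiberToSpecResidueField s)} ∩
        {s : D.obj i₂ | MoreMor.nGeomConnComp M₂.f s = 1}) := fun y => by
    by_contra hy
    exact h₃ y hy
  let M₃ := M₂.bc a₃
  have hsq : IsPullback (pullback.fst M₂.f (D.map a₃)) M₃.f M₂.f (D.map a₃) :=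
    IsPullback.of_hasPullback _ _
  have s₃ : IsSeparated M₃.f := bc_prop (P := @IsSeparated) M₂ s₂ a₃
  have t₃ : Flat M₃.f := bc_prop (P := @Flat) M₂ t₂ a₃
  have u₃ : Surjective M₃.f := bc_prop (P := @Surjective) M₂ u₂ a₃
  have v₃ := M₃.lfp
  have w₃ := M₃.qc
  have p₃ : IsProper M₃.f := by
    refine K132.SmoothProperFib.isProper M₃.f ?_ (K132.SmoothProperFib.nonempty_fiber _) ?_
    · intro η _ _
      apply Groth.Agent.Ega43.GeomFibre.geometricallyConnected_of_nGeomConnComp
      exact (Groth.Agent.Flat2D.GeomFib.nGeomConnComp_baseChange _ _ _ _ hsq η).trans (h₃' η).2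
    · intro s
      exact (Groth.Agent.Ega4fib.H179.Basic.isProper_fiber_iff M₂.f M₃.f _ _ hsq s).mpr (h₃' s).1
  have p : IsProper (f ≫ e.inv) := MorphismProperty.of_isPullback M₃.h p₃
  have h4 : f = (f ≫ e.inv) ≫ e.hom := by simp
  rw [h4]
  infer_instance

/-- **Properness from the fibres.** A flat separated surjective morphism of finite presentation, with
geometrically connected and proper fibres, is proper. -/
theorem isProper {X S : Scheme.{u}} (f : X ⟶ S)
    [Flat f] [LocallyOfFinitePresentation f] [QuasiCompact f] [IsSeparated f] [Surjective f]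
    [GeometricallyConnected f] (hpr : ∀ y, IsProper (f.fiberToSpecResidueField y)) : IsProper f := by
  apply IsZariskiLocalAtTarget.of_forall_exists_morphismRestrict (P := @IsProper)
  intro y
  obtain ⟨_, ⟨U, hU, rfl⟩, hyU, -⟩ := S.isBasis_affineOpens.exists_subset_of_mem_open
    (Set.mem_univ y) isOpen_univ
  refine ⟨U, hyU, ?_⟩
  have : IsAffine U := hU
  have sq := (isPullback_morphismRestrict f U).flip
  have : GeometricallyConnected (f ∣_ U) := MorphismProperty.of_isPullback sq ‹_›
  have : Surjective (f ∣_ U) := MorphismProperty.of_isPullback sq ‹_›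
  have : Flat (f ∣_ U) := MorphismProperty.of_isPullback sq ‹_›
  refine isProper_of_compact (f ∣_ U) fun s => ?_
  exact (Groth.Agent.Ega4fib.H179.Basic.isProper_fiber_iff f (f ∣_ U) _ _ sq s).mpr (hpr _)

end K983.ProperFib
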