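import Groth.Agent.SGA3x.K11.ExtMT
import Groth.Agent.AGF.K500.QcDesc
import Groth.Agent.Sga3C.QuotProps

/-!
# Preimages of central subgroups of multiplicative type in central quotients

`central_preimage`: `G` a group with connected fibres, `q : G ⟶ Q` a faithfully flat quasi-compact homomorphism
whose kernel `H` is of multiplicative type, `H'` a group of multiplicative type with a homomorphism `j : H' ⟶ Q`
central on points: the preimage `P = G ×_Q H'` is central in `G`.
-/

set_option autoImplicit false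
universe u
open CategoryTheory MonoidalCategory CartesianMonoidalCategory MonObj GrpObj AlgebraicGeometry Limits

namespace K983.PreimMT

variable {S : Scheme.{u}}

/-- A family of homomorphisms between groups of multiplicative type, parametrised by a scheme with connected
fibres and a section at which the family is trivial, is trivial. -/
theorem eq_one_of_isHomFamily {H H' U : Over S} [GrpObj H] [GrpObj H'] (hH : SGA3x.IsMultTypeFT H)
    (hH' : SGA3x.IsMultTypeFT H')
    (hU : ∀ s : S, _root_.IsConnected (U.hom.base ⁻¹' {s})) (ε : 𝟙_ (Over S) ⟶ U) (θ : H ⊗ U ⟶ H')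
    (hθ : AutFam.IsHomFamily H H' θ)
    (hε : ∀ (T : Over S) (h : T ⟶ H), lift h (toUnit T ≫ ε) ≫ θ = 1) : θ = 1 := by
  have hone : AutFam.IsHomFamily H H' (1 : H ⊗ U ⟶ H') := fun X g₁ g₂ t => by
    rw [comp_one, comp_one, comp_one, _root_.one_mul]
  obtain ⟨C, hC, hCiff⟩ := Groth.Agent.SGA3x.K5.Clopen.exists_clopen_fam hH hH' hθ hone
  have h1 : Set.range ε.left ⊆ (C : Set U.left) := by
    refine (hCiff _ ε).1 fun T' b q => ?_
    rw [toUnit_unique b (toUnit T'), hε, comp_one]
  have h2 : (C : Set U.left) = Set.univ := by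
    rw [Set.eq_univ_iff_forall]
    intro x
    have hcl : IsClopen (C : Set U.left) := ⟨hC, C.2⟩
    let s := U.hom x
    have hs : ε.left s ∈ U.hom.base ⁻¹' {s} := by
      have h3 : ε.left ≫ U.hom = 𝟙 S := Over.w ε
      change U.hom (ε.left s) = s
      rw [← Scheme.Hom.comp_apply, h3]
      rfl
    exact (hU s).isPreconnected.subset_isClopen hcl ⟨_, hs, h1 ⟨s, rfl⟩⟩ (show x ∈ _ from rfl)
  have h3 := (hCiff (H ⊗ U) (snd H U)).2 (by rw [h2]; exact Set.subset_univ _) (H ⊗ U) (𝟙 _) (fst H U)
  rwa [Category.id_comp, lift_fst_snd, Category.id_comp, Category.id_comp] at h3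

/-- Connected fibres pass to quotients. -/
theorem connected_of_surjective {G Q : Over S} (q : G ⟶ Q) [Surjective q.left]
    (hG : ∀ s : S, _root_.IsConnected (G.hom.base ⁻¹' {s})) (s : S) :
    _root_.IsConnected (Q.hom.base ⁻¹' {s}) := by
  have h1 : Q.hom.base ⁻¹' {s} = q.left.base '' (G.hom.base ⁻¹' {s}) := by
    ext y
    constructor
    · intro hy
      obtain ⟨x, rfl⟩ := q.left.surjective y
      refine ⟨x, ?_, rfl⟩
      change G.hom x = s
      rw [← Over.w q, Scheme.Hom.comp_apply]
      exact hy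
    · rintro ⟨x, hx, rfl⟩
      change Q.hom (q.left x) = s
      rw [← Scheme.Hom.comp_apply, Over.w q]
      exact hx
  rw [h1]
  exact (hG s).image _ q.left.continuous.continuousOn

/-- **The preimage of a central group of multiplicative type in a quotient by a normal subgroup of
multiplicative type is central.** -/
theorem central_preimage {G H Q H' P : Over S} [GrpObj G] [GrpObj H] [GrpObj Q] [GrpObj H'] [GrpObj P]
    (hconn : ∀ s : S, _root_.IsConnected (G.hom.base ⁻¹' {s}))
    (i : H ⟶ G) [IsMonHom i] (hH : SGA3x.IsMultTypeFT H)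
    (q : G ⟶ Q) [IsMonHom q] [Surjective q.left] [Flat q.left] [QuasiCompact q.left]
    (hker : AlgGrp.IsKernel i q)
    (j : H' ⟶ Q) [IsMonHom j] (hH' : SGA3x.IsMultTypeFT H')
    (hcen : ∀ (X : Over S) (x : X ⟶ H') (g : X ⟶ Q), (x ≫ j) * g = g * (x ≫ j))
    (i' : P ⟶ G) [IsMonHom i'] (p : P ⟶ H') [IsMonHom p] (hP : IsPullback i' p q j)
    (X : Over S) (x : X ⟶ P) (g : X ⟶ G) : (x ≫ i') * g = g * (x ≫ i') := by
  have hHc := K11.ExtMT.central G H Q q i hker hH (connected_of_surjective q hconn)
  have hip : ∀ {T : Over S} (a : T ⟶ H), a ≫ i ≫ q = 1 := by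
    intro T a
    rw [hker.w, ← Category.assoc]
    change (a ≫ toUnit H) ≫ η[Q] = toUnit T ≫ η[Q]
    congr 1
    exact toUnit_unique _ _
  have hlift : ∀ {T : Over S} (a : T ⟶ G), a ≫ q = 1 → ∃ b : T ⟶ H, b ≫ i = a := by
    intro T a ha
    refine ⟨hker.lift a (toUnit T) ha, hker.lift_fst _ _ _⟩
  have hmono : Mono i := by
    have : Mono (η[Q] : 𝟙_ (Over S) ⟶ Q) := ⟨fun a b _ => toUnit_unique _ _⟩
    exact MorphismProperty.of_isPullback (P := MorphismProperty.monomorphisms (Over S)) hker.flip
      (MorphismProperty.monomorphisms.infer_property _)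
  -- the commutator
  obtain ⟨c, hc⟩ := hlift (T := P ⊗ G) ((fst P G ≫ i') * snd P G * (fst P G ≫ i')⁻¹ * (snd P G)⁻¹) (by
    have h1 : (fst P G ≫ i') ≫ q = (fst P G ≫ p) ≫ j := by
      rw [Category.assoc, Category.assoc, hP.w]
    rw [mul_comp, mul_comp, mul_comp, inv_comp, inv_comp, h1, hcen, mul_inv_cancel_right, mul_inv_cancel])
  have hcT : ∀ {T : Over S} (h : T ⟶ P) (e : T ⟶ G),
      lift h e ≫ c ≫ i = (h ≫ i') * e * (h ≫ i')⁻¹ * e⁻¹ := by
    intro T h e
    rw [hc, comp_mul, comp_mul, comp_mul, comp_inv, comp_inv, lift_snd, lift_fst_assoc]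
  -- multiplicativity in the first variable
  have hcmul : ∀ {T : Over S} (a b : T ⟶ P) (e : T ⟶ G),
      lift (a * b) e ≫ c = (lift a e ≫ c) * (lift b e ≫ c) := by
    intro T a b e
    rw [← cancel_mono i, Category.assoc, hcT, mul_comp, mul_comp, Category.assoc, Category.assoc, hcT]
    have h1 : (lift b e ≫ c ≫ i) = (lift b e ≫ c) ≫ i := (Category.assoc _ _ _).symm
    have h2 := hcT b e
    have h3 : (a ≫ i') * (b ≫ i') * e * ((a ≫ i') * (b ≫ i'))⁻¹ * e⁻¹ =
        (a ≫ i') * ((b ≫ i') * e * (b ≫ i')⁻¹ * e⁻¹) * e * (a ≫ i')⁻¹ * e⁻¹ := by group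
    rw [h3, ← h2, h1, ← hHc]
    simp only [_root_.mul_assoc]
    rw [hHc T (lift b e ≫ c) ((a ≫ i') * (e * ((a ≫ i')⁻¹ * e⁻¹)))]
    simp only [_root_.mul_assoc]
  have hpb : IsPullback i'.left p.left q.left j.left := hP.map (Over.forget S)
  have f1 : Flat p.left := MorphismProperty.of_isPullback (P := @Flat) hpb inferInstance
  have f2 : Surjective p.left := MorphismProperty.of_isPullback (P := @Surjective) hpb inferInstance
  have f3 : QuasiCompact p.left := MorphismProperty.of_isPullback (P := @QuasiCompact) hpb inferInstance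
  -- `c` factors through `H' ⊗ G`
  have hw1 : IsPullback (p ▷ G).left (fst P G).left (fst H' G).left p.left := by
    have h : IsPullback (p ▷ G) (fst P G) (fst H' G) p := by
      refine ⟨⟨by simp⟩, ⟨PullbackCone.IsLimit.mk _ (fun s => lift s.snd (s.fst ≫ snd H' G)) ?_ ?_ ?_⟩⟩
      · intro s
        apply CartesianMonoidalCategory.hom_ext
        · simp [s.condition]
        · simp
      · intro s
        simp
      · intro s m h1 h2
        apply CartesianMonoidalCategory.hom_ext
        · simp [← h2]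
        · simp [← h1]
    exact h.map (Over.forget S)
  have e1 : Flat (p ▷ G).left := MorphismProperty.of_isPullback (P := @Flat) hw1.flip inferInstance
  have e2 : Surjective (p ▷ G).left := MorphismProperty.of_isPullback (P := @Surjective) hw1.flip inferInstance
  have e3 : QuasiCompact (p ▷ G).left :=
    MorphismProperty.of_isPullback (P := @QuasiCompact) hw1.flip inferInstance
  obtain ⟨θ, hθ⟩ := Groth.Agent.Sga3.H140.QuotQC.exists_desc (p ▷ G) c (by
    intro T x y hxy
    have e1 : (x ≫ fst P G) ≫ p = (y ≫ fst P G) ≫ p := by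
      have := congrArg (fun z => z ≫ fst H' G) hxy
      simpa using this
    have e2 : x ≫ snd P G = y ≫ snd P G := by
      have := congrArg (fun z => z ≫ snd H' G) hxy
      simpa using this
    have hx : x = lift (x ≫ fst P G) (x ≫ snd P G) := by
      apply CartesianMonoidalCategory.hom_ext <;> simp
    have hy : y = lift (y ≫ fst P G) (y ≫ snd P G) := by
      apply CartesianMonoidalCategory.hom_ext <;> simp
    obtain ⟨k, hk⟩ := hlift (((x ≫ fst P G) ≫ i') * ((y ≫ fst P G) ≫ i')⁻¹) (by
      rw [mul_comp, inv_comp, Category.assoc, Category.assoc _ i' q, hP.w, ← Category.assoc _ p j,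
        ← Category.assoc _ p j, e1, mul_inv_cancel])
    have hk' : (x ≫ fst P G) ≫ i' = (k ≫ i) * ((y ≫ fst P G) ≫ i') := by
      rw [hk, inv_mul_cancel_right]
    rw [← cancel_mono i, Category.assoc, Category.assoc, hx, hy, hcT, hcT, ← e2, hk']
    have h6 := hHc T k (((y ≫ fst P G) ≫ i') * (x ≫ snd P G) * ((y ≫ fst P G) ≫ i')⁻¹)
    calc (k ≫ i) * ((y ≫ fst P G) ≫ i') * (x ≫ snd P G) * ((k ≫ i) * ((y ≫ fst P G) ≫ i'))⁻¹ * (x ≫ snd P G)⁻¹
        = ((k ≫ i) * (((y ≫ fst P G) ≫ i') * (x ≫ snd P G) * ((y ≫ fst P G) ≫ i')⁻¹)) * (k ≫ i)⁻¹ *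
            (x ≫ snd P G)⁻¹ := by group
      _ = _ := by rw [h6, mul_inv_cancel_right])
  have hθT : ∀ {T : Over S} (h : T ⟶ P) (e : T ⟶ G), lift (h ≫ p) e ≫ θ = lift h e ≫ c := by
    intro T h e
    rw [← hθ, ← Category.assoc, lift_whiskerRight]
  have hfam : AutFam.IsHomFamily H' H θ := by
    intro X g₁ g₂ t
    -- fpqc-locally `g₁`, `g₂` lift to `P`
    let P₁ := Limits.pullback g₁ p
    let P₂ := Limits.pullback (Limits.pullback.fst g₁ p ≫ g₂) p
    let π : P₂ ⟶ X := Limits.pullback.fst (Limits.pullback.fst g₁ p ≫ g₂) p ≫ Limits.pullback.fst g₁ p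
    have hpb : IsPullback (pullback.fst g₁ p).left (pullback.snd g₁ p).left g₁.left p.left :=
      (IsPullback.of_hasPullback g₁ p).map (Over.forget S)
    have g1 : Flat (pullback.fst g₁ p).left := MorphismProperty.of_isPullback (P := @Flat) hpb.flip inferInstance
    have g2 : Surjective (pullback.fst g₁ p).left :=
      MorphismProperty.of_isPullback (P := @Surjective) hpb.flip inferInstance
    have hpb2 : IsPullback (pullback.fst (Limits.pullback.fst g₁ p ≫ g₂) p).left
        (pullback.snd (Limits.pullback.fst g₁ p ≫ g₂) p).left (Limits.pullback.fst g₁ p ≫ g₂).left p.left :=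
      (IsPullback.of_hasPullback (Limits.pullback.fst g₁ p ≫ g₂) p).map (Over.forget S)
    have g3 : Flat (pullback.fst (Limits.pullback.fst g₁ p ≫ g₂) p).left :=
      MorphismProperty.of_isPullback (P := @Flat) hpb2.flip inferInstance
    have g4 : Surjective (pullback.fst (Limits.pullback.fst g₁ p ≫ g₂) p).left :=
      MorphismProperty.of_isPullback (P := @Surjective) hpb2.flip inferInstance
    have h5 : Flat π.left := inferInstanceAs (Flat (_ ≫ _))
    have h6 : Surjective π.left := inferInstanceAs (Surjective (_ ≫ _))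
    have hepi := Groth.Agent.Sga3C.QuotProps.epi_of_flat_surjective π
    let a₁ : P₂ ⟶ P := Limits.pullback.fst (Limits.pullback.fst g₁ p ≫ g₂) p ≫ Limits.pullback.snd g₁ p
    let a₂ : P₂ ⟶ P := Limits.pullback.snd (Limits.pullback.fst g₁ p ≫ g₂) p
    have ha₁ : π ≫ g₁ = a₁ ≫ p := by
      change (_ ≫ _) ≫ _ = (_ ≫ _) ≫ _
      rw [Category.assoc, Category.assoc, Limits.pullback.condition]
    have ha₂ : π ≫ g₂ = a₂ ≫ p := by
      change (_ ≫ _) ≫ _ = _
      rw [Category.assoc, Limits.pullback.condition]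
    rw [← cancel_epi π]
    simp only [comp_mul, comp_lift_assoc, ha₁, ha₂]
    rw [← mul_comp, hθT, hθT, hθT, hcmul]
  have hunit : ∀ (T : Over S) (h : T ⟶ H'), lift h (toUnit T ≫ η[G]) ≫ θ = 1 := by
    intro T h
    let P₁ := Limits.pullback h p
    have hpb : IsPullback (pullback.fst h p).left (pullback.snd h p).left h.left p.left :=
      (IsPullback.of_hasPullback h p).map (Over.forget S)
    have g1 : Flat (pullback.fst h p).left := MorphismProperty.of_isPullback (P := @Flat) hpb.flip inferInstance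
    have g2 : Surjective (pullback.fst h p).left :=
      MorphismProperty.of_isPullback (P := @Surjective) hpb.flip inferInstance
    have hepi := Groth.Agent.Sga3C.QuotProps.epi_of_flat_surjective (pullback.fst h p)
    rw [← cancel_epi (pullback.fst h p), comp_one, comp_lift_assoc, Limits.pullback.condition, hθT,
      ← cancel_mono i, Category.assoc, hcT, one_comp]
    have h7 : pullback.fst h p ≫ toUnit T ≫ η[G] = 1 := by
      rw [← Category.assoc]
      change (_ ≫ _) ≫ η[G] = toUnit _ ≫ η[G]
      congr 1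
      exact toUnit_unique _ _
    rw [h7, _root_.mul_one, mul_inv_cancel, inv_one, _root_.mul_one]
  have hfin := eq_one_of_isHomFamily hH' hH hconn η[G] θ hfam hunit
  have h1 := hcT x g
  rw [← Category.assoc, ← hθT, hfin, comp_one, one_comp] at h1
  exact mul_inv_eq_iff_eq_mul.1 (mul_inv_eq_one.1 h1.symm)

end K983.PreimMT
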