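import Groth.Agent.SGA3x.K6.HomLoc
import Groth.Agent.TwC.K983.TwIrr
import Groth.Agent.Sga3B.IsoFam

/-!
# Homomorphisms between groups of multiplicative type over geometrically unibranch bases

* `exists_hom`: `Hom_{S-gr}(G, H)` is a quasi-isotrivial twisted constant scheme for `G`, `H` of multiplicative type and of
  finite type;
* `exists_extend_generic`, `exists_extend_opens`: over an irreducible geometrically unibranch base, homomorphisms extend from
  the generic point and from nonempty opens, uniquely (`hom_ext`).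
-/

set_option autoImplicit false

universe u

open CategoryTheory MonoidalCategory CartesianMonoidalCategory MonObj GrpObj AlgebraicGeometry Limits Opposite

namespace K983.HomNormal

open Groth.Agent.Sga3B Groth.Agent.Sga3B.BcPts TwC K6.Const K6.ConstAff

variable {S : Scheme.{u}}

/-- `Hom_{S-gr}(G, H)` is quasi-isotrivial twisted constant. -/
theorem exists_hom (G H : Over S) [GrpObj G] [GrpObj H] (hG : SGA3x.IsMultTypeFT G) (hH : SGA3x.IsMultTypeFT H) :
    ∃ (A : Over S) (υ : G ⊗ A ⟶ H), AutFam.RepresentsHom G H A υ ∧ IsTwConst Topology.etale A := by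
  have key : ∀ s : S, ∃ (B : Type u) (_ : CommRing B) (v : Spec (CommRingCat.of B) ⟶ S) (M N : Type)
      (_ : AddCommGroup M) (_ : AddCommGroup N), Etale v ∧
      s ∈ Set.range v ∧ ∃ υ : Red.bc v G ⊗ const (Spec (CommRingCat.of B)) (N →+ M) ⟶
        Red.bc v H, AutFam.RepresentsHom (Red.bc v G) (Red.bc v H) _ υ := by
    intro s
    obtain ⟨B, _, _, v, M, N, _, _, hv, hs, hM, hN, ⟨e⟩, ⟨e'⟩⟩ := K6.HomLoc.exists_split_two hG hH s
    have hN' : Module.Finite ℤ N := Module.Finite.iff_addGroup_fg.mpr hN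
    obtain ⟨υ, hυ, -⟩ := K6.HomDS.exists_representsHom (Spec (CommRingCat.of B)) M N
    obtain ⟨υ', hυ'⟩ := K6.HomLoc.exists_representsHom_of_iso e e' hυ
    exact ⟨B, inferInstance, v, M, N, inferInstance, inferInstance, hv, hs, υ', hυ'⟩
  obtain ⟨A, υ, hA⟩ := RepDescent.exists_representsHom_of_etale G H (by
    intro s
    obtain ⟨B, _, v, M, N, _, _, hv, hs, υ, hυ⟩ := key s
    exact ⟨_, v, hv, hs, _, υ, hυ, fun U hU => isQuasiAffine_const _ U hU⟩)
  refine ⟨A, υ, hA, ?_⟩
  intro s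
  obtain ⟨B, _, v, M, N, _, _, hv, hs, υ', hυ'⟩ := key s
  obtain ⟨υ'', h''⟩ := RepDescent.representsHom_bc hA v
  obtain ⟨e⟩ := RepDescent.nonempty_iso_of_representsHom h'' hυ'
  exact ⟨_, v, hv, hs, Shrink.{u} (N →+ M), ⟨e ≪≫ reindex _ (equivShrink _)⟩⟩

section fam

variable {S' : Scheme.{u}} {f : S' ⟶ S} {X Y : Over S}

theorem ev_map (g : X ⟶ Y) {T : Over S} (x : T ⟶ X) (t : T ⟶ Over.mk f) :
    ev ((Over.pullback f).map g) x t = x ≫ g := by
  rw [ev, bcEquiv_symm_comp, Equiv.symm_apply_apply, Category.assoc, Iso.inv_hom_id_assoc]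

theorem fam_map (g : X ⟶ Y) : fam ((Over.pullback f).map g) = fst X (Over.mk f) ≫ g := ev_map g _ _

/-- Evaluation at points coming from `S'`. -/
theorem ev_eq (φ : Red.bc f X ⟶ Red.bc f Y) (T : Over S') (x : (Over.map f).obj T ⟶ X)
    (t : (Over.map f).obj T ⟶ Over.mk f) (ht : t.left = T.hom) :
    ev φ x t = (bcEquiv f T Y).symm (bcEquiv f T X x ≫ φ) := by
  let i : T ⟶ Over.mk t.left := Over.homMk (𝟙 T.left) ((Category.id_comp _).trans ht)
  have hi : (Over.map f).map i = (overIso t).inv := by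
    apply Over.OverMorphism.ext
    rfl
  rw [ev, ← hi, ← comp_bcEquiv_symm, ← Category.assoc, ← comp_bcEquiv, ← Category.assoc, hi, Iso.inv_hom_id,
    Category.id_comp]

theorem fam_injective {φ ψ : Red.bc f X ⟶ Red.bc f Y} (h : fam φ = fam ψ) : φ = ψ := by
  let T : Over S' := Red.bc f X
  let x : (Over.map f).obj T ⟶ X := (bcEquiv f T X).symm (𝟙 _)
  let t : (Over.map f).obj T ⟶ Over.mk f := Over.homMk T.hom rfl
  have h1 : ev φ x t = ev ψ x t := by rw [← lift_fam, ← lift_fam, h]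
  rw [ev_eq φ T x t rfl, ev_eq ψ T x t rfl, Equiv.apply_symm_apply, Category.id_comp, Category.id_comp] at h1
  exact (bcEquiv f T Y).symm.injective h1

end fam

/-- Two morphisms into a separated unramified scheme agreeing on a nonempty part of a connected scheme are equal. -/
theorem hom_unique {X S V W : Scheme.{u}} [PreconnectedSpace V] (f : X ⟶ S) [IsSeparated f] [Etale f]
    (a : W ⟶ V) [Nonempty W] (b₁ b₂ : V ⟶ X) (h : b₁ ≫ f = b₂ ≫ f) (h' : a ≫ b₁ = a ≫ b₂) :
    b₁ = b₂ := by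
  let g : V ⟶ S := b₁ ≫ f
  let c₁ : V ⟶ pullback f g := pullback.lift b₁ (𝟙 V) (Category.id_comp _).symm
  let c₂ : V ⟶ pullback f g := pullback.lift b₂ (𝟙 V) (h.symm.trans (Category.id_comp _).symm)
  have h1 : c₁ ≫ pullback.fst f g = b₁ := pullback.lift_fst _ _ _
  have h2 : c₂ ≫ pullback.fst f g = b₂ := pullback.lift_fst _ _ _
  have h3 : c₁ ≫ pullback.snd f g = 𝟙 V := pullback.lift_snd _ _ _
  have h4 : c₂ ≫ pullback.snd f g = 𝟙 V := pullback.lift_snd _ _ _
  have key := TwIrr.section_unique (pullback.snd f g) a c₁ c₂ h3 h4 (by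
      apply pullback.hom_ext
      · rw [Category.assoc, Category.assoc, h1, h2, h']
      · rw [Category.assoc, Category.assoc, h3, h4])
  rw [← h1, ← h2, key]

/-- `v : V ⟶ S` is such that `V`-points of quasi-isotrivial twisted constant schemes extend to sections. -/
def HasExt {V S : Scheme.{u}} (v : V ⟶ S) : Prop :=
  ∀ X : Over S, IsTwConst Topology.etale X → ∀ b : V ⟶ X.left, b ≫ X.hom = v →
    ∃ σ : S ⟶ X.left, σ ≫ X.hom = 𝟙 S ∧ v ≫ σ = b

section unibranch

variable [IrreducibleSpace S] (hS : ∀ s : S, CAlg2.IsGeomUnibranch (S.presheaf.stalk s))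

include hS in
theorem hasExt_generic : HasExt (S.fromSpecResidueField (genericPoint S)) := fun X hX b hb =>
  TwIrr.exists_section hS X hX b hb

include hS in
theorem hasExt_opens (U : S.Opens) [hU : Nonempty U] : HasExt U.ι := by
  intro X hX b hb
  have hη : genericPoint S ∈ U := by
    obtain ⟨x, hx⟩ := hU
    exact (genericPoint_specializes x).mem_open U.2 hx
  let q : Spec (S.residueField (genericPoint S)) ⟶ (U : Scheme.{u}) :=
    IsOpenImmersion.lift U.ι (S.fromSpecResidueField (genericPoint S)) (by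
      rw [Scheme.range_fromSpecResidueField, Scheme.Opens.range_ι]
      exact Set.singleton_subset_iff.mpr hη)
  have hq : q ≫ U.ι = S.fromSpecResidueField (genericPoint S) := IsOpenImmersion.lift_fac _ _ _
  obtain ⟨σ, h1, h2⟩ := TwIrr.exists_section hS X hX (q ≫ b) (by rw [Category.assoc, hb, hq])
  have h3 := TwIrr.isSeparated_of_isTwConst X hX
  have h4 := K6.TwConstClopen.etale_of_isTwConst X hX
  have h5 : PreconnectedSpace (U : Scheme.{u}) := isPreconnected_iff_preconnectedSpace.mp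
    (((PreirreducibleSpace.isPreirreducible_univ (X := S)).open_subset U.2 (Set.subset_univ _)).isPreconnected)
  refine ⟨σ, h1, ?_⟩
  refine hom_unique X.hom q _ _ ?_ ?_
  · rw [Category.assoc, h1, hb, Category.comp_id]
  · rw [← h2, ← hq, Category.assoc]

end unibranch

section hom

variable {G H : Over S} [GrpObj G] [GrpObj H]

/-- The homomorphism attached to a section of the scheme of homomorphisms. -/
noncomputable def homOf {A : Over S} (υ : G ⊗ A ⟶ H) (a : 𝟙_ (Over S) ⟶ A) : G ⟶ H :=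
  lift (𝟙 G) (toUnit G ≫ a) ≫ υ

omit [GrpObj G] [GrpObj H] in
theorem comp_homOf {A : Over S} (υ : G ⊗ A ⟶ H) (a : 𝟙_ (Over S) ⟶ A) {X : Over S} (x : X ⟶ G) :
    x ≫ homOf υ a = lift x (toUnit X ≫ a) ≫ υ := by
  rw [homOf, ← Category.assoc, comp_lift, Category.comp_id, ← Category.assoc]
  congr 3
  exact toUnit_unique _ _

theorem isMonHom_homOf {A : Over S} {υ : G ⊗ A ⟶ H} (hυ : AutFam.IsHomFamily G H υ) (a : 𝟙_ (Over S) ⟶ A) :
    IsMonHom (homOf υ a) :=
  IsoFam.isMonHom_of_mul _ fun X x y => by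
    rw [comp_homOf, comp_homOf, comp_homOf, hυ]

theorem isHomFamily_const (u : G ⟶ H) [IsMonHom u] (T : Over S) : AutFam.IsHomFamily G H (fst G T ≫ u) := by
  intro X g₁ g₂ t
  rw [lift_fst_assoc, lift_fst_assoc, lift_fst_assoc, MonObj.mul_comp]

/-- Homomorphisms between groups of multiplicative type extend along `v` as soon as points of twisted constant schemes
do. -/
theorem exists_hom_of_hasExt {V : Scheme.{u}} {v : V ⟶ S} (hv : HasExt v) (hG : SGA3x.IsMultTypeFT G)
    (hH : SGA3x.IsMultTypeFT H) (φ : Red.bc v G ⟶ Red.bc v H) [IsMonHom φ] :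
    ∃ u : G ⟶ H, IsMonHom u ∧ (Over.pullback v).map u = φ := by
  obtain ⟨A, υ, hυ, hA⟩ := exists_hom G H hG hH
  obtain ⟨b, hb, -⟩ := hυ.2 (Over.mk v) (fam φ) (IsoFam.isHomFamily_fam φ)
  obtain ⟨σ, h1, h2⟩ := hv A hA b.left (Over.w b)
  let a : 𝟙_ (Over S) ⟶ A := Over.homMk σ h1
  have hab : toUnit (Over.mk v) ≫ a = b := by
    apply Over.OverMorphism.ext
    rw [← h2]
    rfl
  refine ⟨homOf υ a, isMonHom_homOf hυ.1 a, fam_injective ?_⟩
  rw [fam_map, comp_homOf, ← hb]
  congr 1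
  apply CartesianMonoidalCategory.hom_ext
  · simp
  · rw [lift_snd, whiskerLeft_snd, ← hab, ← Category.assoc]
    congr 1
    exact toUnit_unique _ _

/-- Homomorphisms between groups of multiplicative type over a connected base which agree over something nonempty are
equal. -/
theorem hom_ext [PreconnectedSpace S] {V : Scheme.{u}} (v : V ⟶ S) [Nonempty V] (hG : SGA3x.IsMultTypeFT G)
    (hH : SGA3x.IsMultTypeFT H) (u₁ u₂ : G ⟶ H) [IsMonHom u₁] [IsMonHom u₂]
    (h : (Over.pullback v).map u₁ = (Over.pullback v).map u₂) : u₁ = u₂ := by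
  obtain ⟨A, υ, hυ, hA⟩ := exists_hom G H hG hH
  have h3 := TwIrr.isSeparated_of_isTwConst A hA
  have h4 := K6.TwConstClopen.etale_of_isTwConst A hA
  obtain ⟨a₁, h₁, -⟩ := hυ.2 (𝟙_ (Over S)) _ (isHomFamily_const u₁ _)
  obtain ⟨a₂, h₂, -⟩ := hυ.2 (𝟙_ (Over S)) _ (isHomFamily_const u₂ _)
  have hc : ∀ (u : G ⟶ H) (a : 𝟙_ (Over S) ⟶ A), G ◁ a ≫ υ = fst G _ ≫ u →
      G ◁ (toUnit (Over.mk v) ≫ a) ≫ υ = fam ((Over.pullback v).map u) := by
    intro u a hu
    rw [fam_map, MonoidalCategory.whiskerLeft_comp, Category.assoc, hu, whiskerLeft_fst_assoc]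
  have h5 : toUnit (Over.mk v) ≫ a₁ = toUnit (Over.mk v) ≫ a₂ := by
    obtain ⟨b, -, hb⟩ := hυ.2 (Over.mk v) (fam ((Over.pullback v).map u₁)) (IsoFam.isHomFamily_fam _)
    rw [hb _ (hc u₁ a₁ h₁), hb _ ((hc u₂ a₂ h₂).trans (by rw [h]))]
  have h6 : a₁ = a₂ := by
    apply Over.OverMorphism.ext
    refine TwIrr.section_unique (S := S) A.hom v a₁.left a₂.left (Over.w a₁) (Over.w a₂) ?_
    have h7 : (toUnit (Over.mk v)).left = v := (Category.comp_id _).symm.trans (Over.w (toUnit (Over.mk v)))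
    have h8 := congrArg (·.left) h5
    rw [← h7]
    exact h8
  have h7 : fst G (𝟙_ (Over S)) ≫ u₁ = fst G (𝟙_ (Over S)) ≫ u₂ := by rw [← h₁, ← h₂, h6]
  have h8 : Epi (fst G (𝟙_ (Over S))) := by
    have : IsIso (fst G (𝟙_ (Over S))) := by
      rw [← rightUnitor_hom]
      infer_instance
    infer_instance
  exact (cancel_epi _).mp h7

end hom

end K983.HomNormal
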