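import Groth.Agent.SGA3x.K983.NormOrb
import Groth.Agent.RedSub.H672.NormQuot
import Groth.Agent.S0114
import Groth.Agent.S3025

/-!
# Quotient of a group of finite presentation by the normaliser of a smooth subgroup with connected fibres

`G` of finite presentation over `S`, `i : H ⟶ G` a monomorphism of groups with `H` smooth with connected fibres,
`N` its normaliser. If `N` is flat over `S`, then the quotient `G / N` exists, is of finite presentation, separated and
locally quasi-projective over `S`.
-/

set_option autoImplicit false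

open CategoryTheory Limits MonoidalCategory CartesianMonoidalCategory MonObj GrpObj AlgebraicGeometry

universe u

namespace K983.NormQuotFp

open Groth.Agent.Sga3C.QuotRel Groth.Agent.Sga3C.QuotGlue Groth.Agent.RedSub.H672.NormRel
  Groth.Agent.RedSub.H672.QuotOfMap Groth.Agent.RedSub.H672.NormQuot Groth.Agent.RedSub.H672 Groth.Agent

variable {S : Scheme.{u}} {G H N : Over S} [GrpObj G] [GrpObj H] [GrpObj N] (i : H ⟶ G) (n : N ⟶ G)

/-- **Quotient by the normaliser.** -/
theorem exists_quotient [IsMonHom i] [Mono i] [LocallyOfFinitePresentation G.hom] [QuasiCompact G.hom]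
    [QuasiSeparated G.hom] [Smooth H.hom] [Flat N.hom]
    (hconn : ∀ s : S, _root_.IsConnected (H.hom.base ⁻¹' {s})) (hN : Red.IsNormalizerOf i n) :
    ∃ (Q : Over S) (q : G ⟶ Q), RedSub.IsQuotient n q ∧ LocallyOfFinitePresentation Q.hom ∧ QuasiCompact Q.hom ∧
      IsSeparated Q.hom ∧ RedSub.IsLocallyQuasiProjective Q := by
  have hn1 : IsMonHom n := hN.1
  have hn2 : Mono n := hN.2.1
  obtain ⟨hHs, hHq⟩ := Groth.Agent.S3025.result S H hconn
  have hR := isERel n
  have ht : Flat (tN n) := by
    change Flat (pullback.fst _ _)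
    infer_instance
  choose V hV hxV m F hF1 hF2 using NormChart.exists_local i n hconn hN
  have hlfp : ∀ x, LocallyOfFinitePresentation (F x) := by
    intro x
    have hp : IsProper (CohB1.ProjSpaceOver.toBase (m x) (V x)) := Ega3B.ProjProper.isProper_toBase _ _
    have h1 : LocallyOfFinitePresentation (F x ≫ CohB1.ProjSpaceOver.toBase (m x) (V x)) := by
      rw [hF1]
      infer_instance
    exact Ega43.FPOfComp.locallyOfFinitePresentation_of_comp _ (CohB1.ProjSpaceOver.toBase (m x) (V x))
  obtain ⟨X, q, hq⟩ := exists_isQuot hR fun x => ⟨G.hom ⁻¹ᵁ V (G.hom x), hxV _, sat n _,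
    have := hlfp (G.hom x)
    hasQuot hR (sat n _) (F (G.hom x)) (hF2 (G.hom x))⟩
  obtain ⟨g, hg, hpb⟩ := exists_over n hq
  have hqs := hq.surj
  have hqf := hq.flat
  have hqp := hq.lfp
  have hsm : LocallyOfFinitePresentation g := by
    have : LocallyOfFinitePresentation (q ≫ g) := by rw [hg]; infer_instance
    exact Groth.Agent.S0114.result q g
  have hqc : QuasiCompact g := by
    have : QuasiCompact (q ≫ g) := by rw [hg]; infer_instance
    exact quasiCompact_of_surjective q g
  have key : ∀ x : S, ∃ h : pullback g (V x).ι ⟶ CohB1.ProjSpaceOver (m x) (V x), Mono h ∧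
      h ≫ CohB1.ProjSpaceOver.toBase (m x) (V x) = pullback.snd g (V x).ι := by
    intro x
    let W := G.hom ⁻¹ᵁ V x
    let qV : W.toScheme ⟶ pullback g (V x).ι := pullback.lift (W.ι ≫ q) (G.hom ∣_ V x) (by
      rw [Category.assoc, hg, morphismRestrict_ι])
    have hqV1 : qV ≫ pullback.fst g (V x).ι = W.ι ≫ q := pullback.lift_fst _ _ _
    have hqV2 : qV ≫ pullback.snd g (V x).ι = G.hom ∣_ V x := pullback.lift_snd _ _ _
    have hsq : IsPullback W.ι qV q (pullback.fst g (V x).ι) := by
      refine IsPullback.of_bot (v₂₁ := pullback.snd g (V x).ι) (v₂₂ := g) (h₃₁ := (V x).ι) ?_ hqV1.symm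
        (IsPullback.of_hasPullback _ _)
      rw [hqV2, hg]
      exact (isPullback_morphismRestrict _ _).flip
    have h1 : Flat qV := MorphismProperty.of_isPullback hsq inferInstance
    have h2 : Surjective qV := MorphismProperty.of_isPullback hsq inferInstance
    have h3 : LocallyOfFinitePresentation qV := MorphismProperty.of_isPullback hsq inferInstance
    have hrel : ∀ {T : Scheme.{u}} (a b : T ⟶ W.toScheme), a ≫ qV = b ≫ qV ↔ a ≫ F x = b ≫ F x := by
      intro T a b
      constructor
      · intro h
        rw [hF2 x, ← hq.rel_iff, Category.assoc, Category.assoc]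
        have h4 := congrArg (fun z => z ≫ pullback.fst g (V x).ι) h
        simpa only [Category.assoc, hqV1] using h4
      · intro h
        have h4 := (hF2 x a b).1 h
        rw [← hq.rel_iff, Category.assoc, Category.assoc] at h4
        apply pullback.hom_ext
        · rw [Category.assoc, Category.assoc, hqV1]
          exact h4
        · rw [Category.assoc, Category.assoc, hqV2, ← hF1 x, ← Category.assoc, h, Category.assoc]
    obtain ⟨h, hh⟩ := exists_desc qV (F x) fun a b hab => (hrel a b).1 hab
    have : Epi qV := Flat.epi_of_flat_of_surjective _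
    refine ⟨h, mono_of_cover qV h fun a b hab => ?_, ?_⟩
    · rw [hh] at hab
      exact (hrel a b).2 hab
    · rw [← cancel_epi qV, reassoc_of% hh, hF1, hqV2]
  refine ⟨Over.mk g, Over.homMk q hg, ⟨hqs, hqf, hqp, hpb⟩, hsm, hqc, ?_, fun x => ?_⟩
  · have hc : TopologicalSpace.IsOpenCover V :=
      TopologicalSpace.IsOpenCover.mk (top_le_iff.1 fun x _ => TopologicalSpace.Opens.mem_iSup.2 ⟨x, hxV x⟩)
    refine IsZariskiLocalAtTarget.of_openCover (P := @IsSeparated) (S.openCoverOfIsOpenCover V hc) fun x => ?_
    obtain ⟨h, hh1, hh2⟩ := key x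
    change IsSeparated (pullback.snd g (V x).ι)
    rw [← hh2]
    have hp : IsProper (CohB1.ProjSpaceOver.toBase (m x) (V x)) := Ega3B.ProjProper.isProper_toBase _ _
    infer_instance
  · obtain ⟨h, hh1, hh2⟩ := key x
    have : IsAffine (V x).toScheme := hV x
    obtain ⟨k, e, he1, he2⟩ := MonoQP.exists_immersion_of_mono (pullback.snd g (V x).ι) h hh2
    exact ⟨V x, hxV x, k, e, he1, he2⟩

end K983.NormQuotFp
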