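import Groth.Agent.RedSub.H672.InfData
import Mathlib.Algebra.Category.Ring.Epi
import Groth.Agent.Sga3C.CWSection

/-!
# Conjugates of infinitesimal points, in an affine neighbourhood of the unit section

`IdChart G s`: an affine open subscheme `Spec A` of `G` over `s : Spec R ⟶ S` containing the unit section.
A point of `G` which is the unit modulo a nilpotent ideal factors through it. In particular the conjugate
`cjPt g` of the universal infinitesimal point of a smooth group `H` by a point `g` of `G` with values in `B`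
is given by a homomorphism `cj g : A →ₐ[R] B ⊗ E`.
-/

set_option autoImplicit false

open CategoryTheory Limits MonoidalCategory CartesianMonoidalCategory MonObj GrpObj AlgebraicGeometry TensorProduct

universe u

namespace K983.NormChart

open Groth.Agent.Sga3B.PinMod Groth.Agent.RedSub.H672.InfNorm Groth.Agent.RedSub.H672
  Groth.Agent.Sga3C.CWSection

variable {S : Scheme.{u}}

/-- An affine neighbourhood of the unit section of `G` over `s : Spec R ⟶ S`. -/
structure IdChart (G : Over S) [GrpObj G] {R : Type u} [CommRing R] (s : Spec (CommRingCat.of R) ⟶ S) where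
  /-- the coordinate ring -/
  A : Type u
  [ring : CommRing A]
  [alg : Algebra R A]
  /-- the open immersion -/
  j : Spec (CommRingCat.of A) ⟶ G.left
  [oi : IsOpenImmersion j]
  hj : j ≫ G.hom = Spec.map (CommRingCat.ofHom (algebraMap R A)) ≫ s
  /-- the unit section -/
  ε : A →ₐ[R] R
  hε : Spec.map (CommRingCat.ofHom (ε : A →+* R)) ≫ j = s ≫ η[G].left

attribute [instance] IdChart.ring IdChart.alg IdChart.oi

section Basic

variable {R : Type u} [CommRing R] (s : Spec (CommRingCat.of R) ⟶ S)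

theorem tMap_comp {A B C : Type u} [CommRing A] [Algebra R A] [CommRing B] [Algebra R B] [CommRing C]
    [Algebra R C] (φ : A →ₐ[R] B) (ψ : B →ₐ[R] C) : tMap s ψ ≫ tMap s φ = tMap s (ψ.comp φ) := by
  apply Over.OverMorphism.ext
  rw [Over.comp_left, tMap_left, tMap_left, tMap_left, ← Spec.map_comp, ← CommRingCat.ofHom_comp]
  rfl

end Basic

variable {G H : Over S} [GrpObj G] [GrpObj H] {R : Type u} [CommRing R]
  {s : Spec (CommRingCat.of R) ⟶ S} (c : IdChart G s)

/-- The point of `G` given by a homomorphism from the chart. -/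
noncomputable def ptA {Q : Type u} [CommRing Q] [Algebra R Q] (φ : c.A →ₐ[R] Q) : tB s Q ⟶ G :=
  Over.homMk (Spec.map (CommRingCat.ofHom (φ : c.A →+* Q)) ≫ c.j) (by
    rw [Category.assoc, c.hj, ← Category.assoc, ← Spec.map_comp, ← CommRingCat.ofHom_comp, AlgHom.comp_algebraMap]
    rfl)

theorem ptA_left {Q : Type u} [CommRing Q] [Algebra R Q] (φ : c.A →ₐ[R] Q) :
    (ptA c φ).left = Spec.map (CommRingCat.ofHom (φ : c.A →+* Q)) ≫ c.j := rfl

theorem ptA_injective {Q : Type u} [CommRing Q] [Algebra R Q] {φ ψ : c.A →ₐ[R] Q}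
    (h : ptA c φ = ptA c ψ) : φ = ψ := by
  have h1 := congrArg (fun z => z.left) h
  change Spec.map (CommRingCat.ofHom (φ : c.A →+* Q)) ≫ c.j =
    Spec.map (CommRingCat.ofHom (ψ : c.A →+* Q)) ≫ c.j at h1
  rw [cancel_mono] at h1
  have h2 := congrArg CommRingCat.Hom.hom (Spec.map_injective h1)
  ext a
  exact congrArg (fun f : c.A →+* Q => f a) h2

theorem tMap_ptA {Q Q' : Type u} [CommRing Q] [Algebra R Q] [CommRing Q'] [Algebra R Q'] (φ : c.A →ₐ[R] Q)
    (ψ : Q →ₐ[R] Q') : tMap s ψ ≫ ptA c φ = ptA c (ψ.comp φ) := by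
  apply Over.OverMorphism.ext
  rw [Over.comp_left, ptA_left, ptA_left, tMap_left, ← Category.assoc, ← Spec.map_comp,
    ← CommRingCat.ofHom_comp]
  rfl

/-- The unit point in the chart. -/
theorem ptA_one (Q : Type u) [CommRing Q] [Algebra R Q] :
    ptA c ((Algebra.ofId R Q).comp c.ε) = 1 := by
  apply Over.OverMorphism.ext
  rw [InfData.one_left, ptA_left]
  have h1 : CommRingCat.ofHom (((Algebra.ofId R Q).comp c.ε : c.A →ₐ[R] Q) : c.A →+* Q) =
      CommRingCat.ofHom (c.ε : c.A →+* R) ≫ CommRingCat.ofHom (algebraMap R Q) := rfl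
  rw [h1, Spec.map_comp, Category.assoc, c.hε, ← Category.assoc]
  rfl

/-- **A point which is the unit modulo a nilpotent ideal lies in the chart.** -/
theorem exists_ptA [Mono s] {Q : Type u} [CommRing Q] [Algebra R Q] (g : tB s Q ⟶ G) {D : CommRingCat.{u}}
    (π : CommRingCat.of Q ⟶ D) (hπ1 : Function.Surjective π.hom) (hπ2 : IsNilpotent (RingHom.ker π.hom))
    (hπ3 : Spec.map π ≫ g.left = Spec.map π ≫ (1 : tB s Q ⟶ G).left) :
    ∃ φ : c.A →ₐ[R] Q, ptA c φ = g := by
  obtain ⟨k, hk⟩ := hπ2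
  have hs : Function.Surjective (Spec.map π).base := by
    intro z
    have h3 : (z : PrimeSpectrum Q) ∈ Set.range (PrimeSpectrum.comap π.hom) := by
      rw [_root_.range_comap_of_surjective _ _ hπ1]
      intro a ha
      have h4 : a ^ k ∈ (RingHom.ker π.hom) ^ k := Ideal.pow_mem_pow ha k
      rw [hk, Submodule.zero_eq_bot, Ideal.mem_bot] at h4
      exact z.isPrime.mem_of_pow_mem k (by rw [h4]; exact zero_mem _)
    exact h3
  have h10 : (1 : tB s Q ⟶ G).left = Spec.map (CommRingCat.ofHom (algebraMap R Q)) ≫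
      Spec.map (CommRingCat.ofHom (c.ε : c.A →+* R)) ≫ c.j := by
    rw [InfData.one_left, c.hε, ← Category.assoc]
    rfl
  have hr : Set.range g.left ⊆ Set.range c.j := by
    rintro _ ⟨z, rfl⟩
    obtain ⟨z', rfl⟩ := hs z
    rw [← Scheme.Hom.comp_apply, hπ3, h10]
    exact ⟨(Spec.map π ≫ Spec.map (CommRingCat.ofHom (algebraMap R Q)) ≫
      Spec.map (CommRingCat.ofHom (c.ε : c.A →+* R))) z', by
        rw [← Scheme.Hom.comp_apply]
        simp only [Category.assoc]⟩
  obtain ⟨φ, hφ⟩ := Spec.map_surjective (IsOpenImmersion.lift c.j g.left hr)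
  have hφj : Spec.map φ ≫ c.j = g.left := by
    rw [hφ, IsOpenImmersion.lift_fac]
  have hφR : (φ.hom).comp (algebraMap R c.A) = algebraMap R Q := by
    have h3 : Spec.map (CommRingCat.ofHom (algebraMap R Q)) ≫ s =
        Spec.map (CommRingCat.ofHom (φ.hom.comp (algebraMap R c.A))) ≫ s := by
      rw [CommRingCat.ofHom_comp, Spec.map_comp, Category.assoc, ← c.hj, CommRingCat.ofHom_hom,
        ← Category.assoc, hφj, Over.w g]
      rfl
    rw [cancel_mono] at h3
    have h4 := Spec.map_injective h3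
    exact (congrArg CommRingCat.Hom.hom h4).symm
  exact ⟨{ φ.hom with commutes' := fun r => congrArg (fun f : R →+* Q => f r) hφR },
    Over.OverMorphism.ext hφj⟩

section Conj

variable (i : H ⟶ G) {k : ℕ} (d : InfData.Data s H k)

/-- The universal infinitesimal point of `H` as a point of `G`. -/
noncomputable def yG : tB s d.E ⟶ G := d.yH ≫ i

/-- The same with values in `B ⊗ E`. -/
noncomputable def yB (B : Type u) [CommRing B] [Algebra R B] : tB s (B ⊗[R] d.E) ⟶ G :=
  tMap s (Algebra.TensorProduct.includeRight : d.E →ₐ[R] B ⊗[R] d.E) ≫ d.yH ≫ i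

variable {B C : Type u} [CommRing B] [Algebra R B] [CommRing C] [Algebra R C]

/-- A point with values in `B` as a point with values in `B ⊗ E`. -/
noncomputable def inL (g : tB s B ⟶ G) : tB s (B ⊗[R] d.E) ⟶ G :=
  tMap s (Algebra.TensorProduct.includeLeft : B →ₐ[R] B ⊗[R] d.E) ≫ g

/-- The conjugate of the universal point. -/
noncomputable def cjPt (g : tB s B ⟶ G) : tB s (B ⊗[R] d.E) ⟶ G :=
  inL d g * yB i d B * (inL d g)⁻¹

/-- The conjugate of `y` by `g` comes from `y` by an endomorphism of `B ⊗ E`. -/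
def St (g : tB s B ⟶ G) : Prop :=
  ∃ τ : B ⊗[R] d.E →ₐ[B] B ⊗[R] d.E, cjPt i d g = tMap s (τ.restrictScalars R) ≫ yB i d B

theorem inL_mul (a b : tB s B ⟶ G) : inL d (a * b) = inL d a * inL d b := by
  rw [inL, comp_mul]
  rfl

theorem inL_inv (a : tB s B ⟶ G) : inL d a⁻¹ = (inL d a)⁻¹ := by
  rw [inL, GrpObj.comp_inv]
  rfl

theorem cjPt_one : cjPt i d (1 : tB s B ⟶ G) = yB i d B := by
  rw [cjPt, inL, comp_one]
  group

theorem cjPt_mul (a b : tB s B ⟶ G) : cjPt i d (a * b) = inL d a * cjPt i d b * (inL d a)⁻¹ := by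
  simp only [cjPt, inL_mul]
  group

omit [GrpObj G] in
theorem map_inL (τ : B ⊗[R] d.E →ₐ[B] B ⊗[R] d.E) (g : tB s B ⟶ G) :
    tMap s (τ.restrictScalars R) ≫ inL d g = inL d g := by
  rw [inL, ← Category.assoc, tMap_comp]
  congr 2
  ext b
  exact τ.commutes b

theorem map_cjPt (τ : B ⊗[R] d.E →ₐ[B] B ⊗[R] d.E) (g : tB s B ⟶ G) :
    tMap s (τ.restrictScalars R) ≫ cjPt i d g =
      inL d g * (tMap s (τ.restrictScalars R) ≫ yB i d B) * (inL d g)⁻¹ := by
  rw [cjPt, comp_mul, comp_mul, GrpObj.comp_inv, map_inL]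

theorem rel_iff (a b : tB s B ⟶ G) (τ : B ⊗[R] d.E →ₐ[B] B ⊗[R] d.E) :
    cjPt i d b = tMap s (τ.restrictScalars R) ≫ cjPt i d a ↔
      cjPt i d (a⁻¹ * b) = tMap s (τ.restrictScalars R) ≫ yB i d B := by
  rw [map_cjPt, cjPt_mul, inL_inv]
  constructor
  · intro h
    rw [h]
    group
  · intro h
    rw [← h]
    group

theorem st_inv_mul_iff (a b : tB s B ⟶ G) :
    St i d (a⁻¹ * b) ↔ ∃ τ : B ⊗[R] d.E →ₐ[B] B ⊗[R] d.E,
      cjPt i d b = tMap s (τ.restrictScalars R) ≫ cjPt i d a :=
  exists_congr fun τ => (rel_iff i d a b τ).symm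

/-- Functoriality. -/
theorem cjPt_nat (φ : B →ₐ[R] C) (g : tB s B ⟶ G) :
    tMap s (Algebra.TensorProduct.map φ (AlgHom.id R d.E)) ≫ cjPt i d g = cjPt i d (tMap s φ ≫ g) := by
  have h1 : tMap s (Algebra.TensorProduct.map φ (AlgHom.id R d.E)) ≫ inL d g = inL d (tMap s φ ≫ g) := by
    rw [inL, inL, ← Category.assoc, ← Category.assoc, tMap_comp, tMap_comp]
    congr 2
  have h2 : tMap s (Algebra.TensorProduct.map φ (AlgHom.id R d.E)) ≫ yB i d B = yB i d C := by
    rw [yB, yB, ← Category.assoc, tMap_comp]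
    congr 2
    ext b
    change Algebra.TensorProduct.map φ (AlgHom.id R d.E) (1 ⊗ₜ b) = 1 ⊗ₜ b
    rw [Algebra.TensorProduct.map_tmul, map_one, AlgHom.id_apply]
  rw [cjPt, comp_mul, comp_mul, GrpObj.comp_inv, h1, h2, cjPt]

/-- Infinitesimal points. -/
theorem isInf_tMap : IsInf k (tMap s (Algebra.TensorProduct.includeRight : d.E →ₐ[R] B ⊗[R] d.E) ≫ d.yH) := by
  refine ⟨CommRingCat.of B, CommRingCat.ofHom (bcSection d.δ B : B ⊗[R] d.E →+* B), ?_, ?_, ?_⟩
  · intro b
    refine ⟨b ⊗ₜ 1, ?_⟩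
    change bcSection d.δ B (b ⊗ₜ 1) = b
    rw [bcSection_tmul, map_one, map_one, _root_.mul_one]
  · change RingHom.ker (bcSection d.δ B) ^ k = ⊥
    rw [ker_bcSection, ← Ideal.map_pow, d.ker_pow, Ideal.map_bot]
  · have h1 : tMap s ((bcSection d.δ B).restrictScalars R) ≫
        tMap s (Algebra.TensorProduct.includeRight : d.E →ₐ[R] B ⊗[R] d.E) ≫ d.yH =
        tMap s ((bcSection d.δ B).restrictScalars R) ≫ 1 := by
      rw [← Category.assoc, tMap_comp, comp_one]
      have h2 : ((bcSection d.δ B).restrictScalars R).comp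
          (Algebra.TensorProduct.includeRight : d.E →ₐ[R] B ⊗[R] d.E) = (Algebra.ofId R B).comp d.δ := by
        ext e
        change bcSection d.δ B (1 ⊗ₜ e) = algebraMap R B (d.δ e)
        rw [bcSection_tmul, _root_.one_mul]
      rw [h2, ← tMap_comp, Category.assoc, d.δ_comp, comp_one]
    exact congrArg (fun z => z.left) h1

variable [IsMonHom i]

theorem bc_cjPt (g : tB s B ⟶ G) : tMap s ((bcSection d.δ B).restrictScalars R) ≫ cjPt i d g = 1 := by
  have h2 : tMap s ((bcSection d.δ B).restrictScalars R) ≫ yB i d B = 1 := by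
    rw [yB, ← Category.assoc, ← Category.assoc, tMap_comp]
    have h2 : ((bcSection d.δ B).restrictScalars R).comp
        (Algebra.TensorProduct.includeRight : d.E →ₐ[R] B ⊗[R] d.E) = (Algebra.ofId R B).comp d.δ := by
      ext e
      change bcSection d.δ B (1 ⊗ₜ e) = algebraMap R B (d.δ e)
      rw [bcSection_tmul, _root_.one_mul]
    rw [h2, ← tMap_comp, Category.assoc, Category.assoc, ← Category.assoc _ d.yH, d.δ_comp, one_comp, comp_one]
  rw [cjPt, comp_mul, comp_mul, h2, _root_.mul_one, ← comp_mul, mul_inv_cancel, comp_one]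

variable [Mono s]

theorem exists_cj (g : tB s B ⟶ G) : ∃ φ : c.A →ₐ[R] B ⊗[R] d.E, ptA c φ = cjPt i d g := by
  refine exists_ptA c (cjPt i d g) (D := CommRingCat.of B)
    (CommRingCat.ofHom (bcSection d.δ B : B ⊗[R] d.E →+* B)) ?_ ⟨k, ?_⟩ ?_
  · intro b
    refine ⟨b ⊗ₜ 1, ?_⟩
    change bcSection d.δ B (b ⊗ₜ 1) = b
    rw [bcSection_tmul, map_one, map_one, _root_.mul_one]
  · change RingHom.ker (bcSection d.δ B) ^ k = 0
    rw [ker_bcSection, ← Ideal.map_pow, d.ker_pow, Ideal.map_bot]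
    rfl
  · have h1 : tMap s ((bcSection d.δ B).restrictScalars R) ≫ cjPt i d g =
      tMap s ((bcSection d.δ B).restrictScalars R) ≫ 1 := by rw [bc_cjPt, comp_one]
    exact congrArg (fun z => z.left) h1

/-- The homomorphism of the conjugate point. -/
noncomputable def cj (g : tB s B ⟶ G) : c.A →ₐ[R] B ⊗[R] d.E := (exists_cj c i d g).choose

theorem ptA_cj (g : tB s B ⟶ G) : ptA c (cj c i d g) = cjPt i d g := (exists_cj c i d g).choose_spec

theorem cj_nat (φ : B →ₐ[R] C) (g : tB s B ⟶ G) :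
    (Algebra.TensorProduct.map φ (AlgHom.id R d.E)).comp (cj c i d g) = cj c i d (tMap s φ ≫ g) := by
  apply ptA_injective c
  rw [← tMap_ptA, ptA_cj, ptA_cj, cjPt_nat]

theorem bcSection_cj (g : tB s B ⟶ G) (a : c.A) :
    bcSection d.δ B (cj c i d g a) = algebraMap R B (c.ε a) := by
  have h1 : ((bcSection d.δ B).restrictScalars R).comp (cj c i d g) = (Algebra.ofId R B).comp c.ε := by
    apply ptA_injective c
    rw [← tMap_ptA, ptA_cj, bc_cjPt, ptA_one]
  exact congrArg (fun f : c.A →ₐ[R] B => f a) h1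

theorem cj_eq_zero (g : tB s B ⟶ G) (a : c.A) (ha : a ∈ RingHom.ker c.ε ^ k) : cj c i d g a = 0 := by
  have h1 : (RingHom.ker c.ε).map (cj c i d g) ≤ RingHom.ker (bcSection d.δ B) := by
    rw [Ideal.map_le_iff_le_comap]
    intro x hx
    rw [Ideal.mem_comap, RingHom.mem_ker, bcSection_cj]
    rw [RingHom.mem_ker] at hx
    rw [hx, map_zero]
  have h2 : (RingHom.ker c.ε ^ k).map (cj c i d g) ≤ ⊥ := by
    rw [Ideal.map_pow]
    refine (Ideal.pow_right_mono h1 k).trans ?_
    rw [ker_bcSection, ← Ideal.map_pow, d.ker_pow, Ideal.map_bot]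
  exact h2 (Ideal.mem_map_of_mem _ ha)

/-- The homomorphism `B ⊗ A → B ⊗ E` given by the conjugate of `y`. -/
noncomputable def rho (g : tB s B ⟶ G) : B ⊗[R] c.A →ₐ[B] B ⊗[R] d.E :=
  Algebra.TensorProduct.lift (Algebra.ofId B (B ⊗[R] d.E)) (cj c i d g) (fun _ _ => Commute.all _ _)

theorem rho_tmul (g : tB s B ⟶ G) (b : B) (a : c.A) : rho c i d g (b ⊗ₜ a) = b • cj c i d g a := by
  rw [rho, Algebra.TensorProduct.lift_tmul, Algebra.smul_def]
  rfl

omit [Mono s] in
theorem finite_E : Module.Finite R d.E := by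
  classical
  refine ⟨⟨Finset.univ.image d.x, ?_⟩⟩
  rw [eq_top_iff]
  intro z _
  rw [← d.hx z]
  exact Submodule.sum_mem _ fun l _ => Submodule.smul_mem _ _
    (Submodule.subset_span (Finset.mem_coe.2 (Finset.mem_image_of_mem _ (Finset.mem_univ l))))

/-- `rho` is surjective. -/
theorem rho_surjective [Mono i] (g : tB s B ⟶ G) : Function.Surjective (rho c i d g) := by
  have h4 : Epi (CommRingCat.ofHom ((rho c i d g : B ⊗[R] c.A →ₐ[B] B ⊗[R] d.E) : B ⊗[R] c.A →+* B ⊗[R] d.E)) := by
    constructor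
    intro Z α β hαβ
    have hB : α.hom.comp (algebraMap B (B ⊗[R] d.E)) = β.hom.comp (algebraMap B (B ⊗[R] d.E)) := by
      ext b
      have h1 := congrArg (fun f => CommRingCat.Hom.hom f (algebraMap B (B ⊗[R] c.A) b)) hαβ
      change α.hom (rho c i d g (algebraMap B _ b)) = β.hom (rho c i d g (algebraMap B _ b)) at h1
      rwa [AlgHom.commutes] at h1
    let _ : Algebra B Z := (α.hom.comp (algebraMap B (B ⊗[R] d.E))).toAlgebra
    let _ : Algebra R Z := ((algebraMap B Z).comp (algebraMap R B)).toAlgebra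
    have : IsScalarTower R B Z := IsScalarTower.of_algebraMap_eq fun _ => rfl
    let α' : B ⊗[R] d.E →ₐ[B] Z := { α.hom with commutes' := fun _ => rfl }
    let β' : B ⊗[R] d.E →ₐ[B] Z := { β.hom with
      commutes' := fun b => (congrArg (fun f : B →+* Z => f b) hB).symm }
    have h1 : tMap s (α'.restrictScalars R) ≫ cjPt i d g = tMap s (β'.restrictScalars R) ≫ cjPt i d g := by
      rw [← ptA_cj c i d g, tMap_ptA, tMap_ptA]
      congr 1
      ext a
      have h2 := congrArg (fun f => CommRingCat.Hom.hom f ((1 : B) ⊗ₜ[R] a)) hαβ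
      change α.hom (rho c i d g (1 ⊗ₜ a)) = β.hom (rho c i d g (1 ⊗ₜ a)) at h2
      rw [rho_tmul, one_smul] at h2
      exact h2
    have h2 : tMap s (α'.restrictScalars R) ≫ inL d g = tMap s (β'.restrictScalars R) ≫ inL d g := by
      rw [inL, ← Category.assoc, ← Category.assoc, tMap_comp, tMap_comp]
      congr 2
      ext b
      change α' (algebraMap B _ b) = β' (algebraMap B _ b)
      rw [AlgHom.commutes, AlgHom.commutes]
    have h3 : tMap s (α'.restrictScalars R) ≫ yB i d B = tMap s (β'.restrictScalars R) ≫ yB i d B := by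
      have h5 : yB i d B = (inL d g)⁻¹ * cjPt i d g * inL d g := by
        rw [cjPt]
        group
      rw [h5, comp_mul, comp_mul, comp_mul, comp_mul, GrpObj.comp_inv, GrpObj.comp_inv, h1, h2]
    have h6 : (α'.restrictScalars R).comp (Algebra.TensorProduct.includeRight : d.E →ₐ[R] B ⊗[R] d.E) =
        (β'.restrictScalars R).comp (Algebra.TensorProduct.includeRight : d.E →ₐ[R] B ⊗[R] d.E) := by
      simp only [yB, ← Category.assoc, tMap_comp] at h3
      rw [cancel_mono] at h3
      have h7 := congrArg (fun z => z.left) h3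
      rw [Over.comp_left, Over.comp_left, cancel_mono] at h7
      have h8 := congrArg CommRingCat.Hom.hom (Spec.map_injective h7)
      ext e
      exact congrArg (fun f : d.E →+* Z => f e) h8
    have h7 : α' = β' := by
      apply Algebra.TensorProduct.ext
      · ext
      · ext e
        exact congrArg (fun f : d.E →ₐ[R] Z => f e) h6
    apply CommRingCat.hom_ext
    apply RingHom.ext
    intro z
    change α' z = β' z
    rw [h7]
  refine RingHom.surjective_of_epi_of_finite (CommRingCat.ofHom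
    ((rho c i d g : B ⊗[R] c.A →ₐ[B] B ⊗[R] d.E) : B ⊗[R] c.A →+* B ⊗[R] d.E)) ?_
  have := finite_E d
  have h5 : (algebraMap B (B ⊗[R] d.E)).Finite := by
    rw [RingHom.finite_algebraMap]
    infer_instance
  have h6 : ((rho c i d g : B ⊗[R] c.A →ₐ[B] B ⊗[R] d.E) : B ⊗[R] c.A →+* B ⊗[R] d.E).comp
      (algebraMap B (B ⊗[R] c.A)) = algebraMap B (B ⊗[R] d.E) := (rho c i d g).comp_algebraMap
  rw [← h6] at h5
  exact RingHom.Finite.of_comp_finite h5

omit [Mono s] in
/-- **The infinitesimal stabiliser in terms of the universal point.** -/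
theorem infStab_iff_st [Mono i] (g : tB s B ⟶ G) : InfStab i k g ↔ St i d g := by
  constructor
  · intro h
    obtain ⟨h', hh'⟩ := h (CommRingCat.of (B ⊗[R] d.E))
      (Spec.map (CommRingCat.ofHom (algebraMap R (B ⊗[R] d.E))) ≫ s)
      (tMap s (Algebra.TensorProduct.includeLeft : B →ₐ[R] B ⊗[R] d.E))
      (tMap s (Algebra.TensorProduct.includeRight : d.E →ₐ[R] B ⊗[R] d.E) ≫ d.yH) (isInf_tMap d)
    have h1 : IsInf k h' := (isInf_tMap d).conj i _ hh'
    obtain ⟨σ, rfl⟩ := d.lift (B ⊗[R] d.E) h' h1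
    let τ : B ⊗[R] d.E →ₐ[B] B ⊗[R] d.E :=
      Algebra.TensorProduct.lift (Algebra.ofId B (B ⊗[R] d.E)) σ (fun _ _ => Commute.all _ _)
    refine ⟨τ, ?_⟩
    have h2 : cjPt i d g = (tMap s σ ≫ d.yH) ≫ i := by
      rw [← hh', Category.assoc]
      rfl
    rw [h2, yB, ← Category.assoc (tMap s _) (tMap s _), tMap_comp, Category.assoc]
    congr 2
    ext e
    change σ e = τ (1 ⊗ₜ e)
    rw [Algebra.TensorProduct.lift_tmul, map_one, _root_.one_mul]
  · rintro ⟨τ, hτ⟩ Q q t h hh
    obtain ⟨φ, hφ⟩ := Spec.map_surjective t.left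
    have hq : q = Spec.map (CommRingCat.ofHom (φ.hom.comp (algebraMap R B))) ≫ s := by
      have h1 : t.left ≫ (tB s B).hom = q := Over.w t
      rw [← h1, ← hφ, CommRingCat.ofHom_comp, Spec.map_comp, Category.assoc]
      rfl
    let _ : Algebra R Q := (φ.hom.comp (algebraMap R B)).toAlgebra
    subst hq
    let φ' : B →ₐ[R] Q := { φ.hom with commutes' := fun r => rfl }
    have ht : t = tMap s φ' := by
      apply Over.OverMorphism.ext
      exact hφ.symm
    subst ht
    obtain ⟨σ, rfl⟩ := d.lift Q h hh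
    let θ : B ⊗[R] d.E →ₐ[R] Q := Algebra.TensorProduct.lift φ' σ (fun _ _ => Commute.all _ _)
    have h1 : θ.comp (Algebra.TensorProduct.includeLeft : B →ₐ[R] B ⊗[R] d.E) = φ' := by
      ext b
      change θ (b ⊗ₜ 1) = φ' b
      rw [Algebra.TensorProduct.lift_tmul]
      simp
    have h2 : θ.comp (Algebra.TensorProduct.includeRight : d.E →ₐ[R] B ⊗[R] d.E) = σ := by
      ext b
      change θ (1 ⊗ₜ b) = σ b
      rw [Algebra.TensorProduct.lift_tmul]
      simp
    have h3 := congrArg (fun z => tMap s θ ≫ z) hτ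
    simp only [cjPt, yB, inL, comp_mul, GrpObj.comp_inv, ← Category.assoc, tMap_comp, h1, h2] at h3
    rw [h3]
    refine ⟨tMap s ((θ.comp (τ.restrictScalars R)).comp
      (Algebra.TensorProduct.includeRight : d.E →ₐ[R] B ⊗[R] d.E)) ≫ d.yH, ?_⟩
    simp only []
    rfl

end Conj

end K983.NormChart
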