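import Groth.Agent.SGA3x.K983.NormMat
import Groth.Agent.Sga3C.QuotGlue
import Groth.Agent.S3040

/-!
# The normaliser is an infinitesimal stabiliser, locally on the base

`G` of finite presentation over `S` (not necessarily affine), `H` smooth with connected fibres.
-/

set_option autoImplicit false
set_option linter.unusedSectionVars false

universe u

open CategoryTheory Limits MonoidalCategory CartesianMonoidalCategory MonObj GrpObj AlgebraicGeometry TensorProduct

namespace K983.NormChart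

open Groth.Agent.Sga3B.PinMod Groth.Agent.RedSub.H672.InfNorm Groth.Agent.RedSub.H672
  Groth.Agent.Sga3C.QuotGlue

/-- Factorisation through a monomorphism can be tested on small affine opens. -/
theorem exists_fac_of_affine {X N G : Scheme.{u}} (n : N ⟶ G) [Mono n] (g : X ⟶ G)
    (h : ∀ x : X, ∃ (U : X.Opens) (hU : IsAffineOpen U), x ∈ U ∧
      ∃ z : Spec Γ(X, U) ⟶ N, z ≫ n = hU.fromSpec ≫ g) : ∃ z : X ⟶ N, z ≫ n = g := by
  choose U hU hxU z hz using h
  have key : ∀ x, (U x).ι = (hU x).isoSpec.hom ≫ (hU x).fromSpec := by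
    intro x
    rw [← IsAffineOpen.isoSpec_inv_ι, Iso.hom_inv_id_assoc]
  have h1 : ∀ x, ((hU x).isoSpec.hom ≫ z x) ≫ n = (U x).ι ≫ g := by
    intro x
    rw [Category.assoc, hz, key, Category.assoc]
  obtain ⟨f, hf⟩ := exists_glue U (fun x => ⟨x, hxU x⟩) (fun x => (hU x).isoSpec.hom ≫ z x) fun x y => by
    have hx := h1 x
    have hy := h1 y
    rw [← cancel_mono n]
    simp only [Category.assoc] at hx hy ⊢
    rw [hx, hy, pullback.condition_assoc]
  refine ⟨f, hom_ext_opens U (fun x => ⟨x, hxU x⟩) _ _ fun x => ?_⟩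
  rw [← Category.assoc, hf, h1]

variable {S : Scheme.{u}} {G H N : Over S} [GrpObj G] [GrpObj H] [GrpObj N] {R : Type u} [CommRing R]
  {s : Spec (CommRingCat.of R) ⟶ S} (c : IdChart G s) (i : H ⟶ G) (n : N ⟶ G) {k : ℕ}

omit [GrpObj G] in
/-- The ideal of a closed subscheme of finite presentation at a point with values in `D`. -/
theorem exists_ideal_closed {D : Type u} [CommRing D] [Algebra R D] (w : tB s D ⟶ G) {N : Over S} (n : N ⟶ G)
    [IsClosedImmersion n.left] [LocallyOfFinitePresentation n.left] : ∃ 𝔞 : Ideal D, 𝔞.FG ∧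
      ∀ (B : Type u) [CommRing B] [Algebra R B] (φ : D →ₐ[R] B),
        (∀ a ∈ 𝔞, φ a = 0) ↔ ∃ z : tB s B ⟶ N, z ≫ n = tMap s φ ≫ w := by
  have h1 : IsClosedImmersion (pullback.snd n.left w.left) := inferInstance
  have h2 : LocallyOfFinitePresentation (pullback.snd n.left w.left) := inferInstance
  obtain ⟨I, e, he⟩ := IsClosedImmersion.Spec_iff.1 h1
  refine ⟨I, ?_, fun B _ _ g => ?_⟩
  · have h3 : LocallyOfFinitePresentation (Spec.map (CommRingCat.ofHom (Ideal.Quotient.mk I))) := by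
      have h4 : Spec.map (CommRingCat.ofHom (Ideal.Quotient.mk I)) = e.inv ≫ pullback.snd n.left w.left := by
        rw [he, Iso.inv_hom_id_assoc]
      rw [h4]
      infer_instance
    rw [HasRingHomProperty.Spec_iff (P := @LocallyOfFinitePresentation)] at h3
    have h5 : Algebra.FinitePresentation D (D ⧸ I) := h3
    have h6 := Algebra.FinitePresentation.ker_fG_of_surjective (Ideal.Quotient.mkₐ D I)
      (Ideal.Quotient.mkₐ_surjective _ _)
    have h7 : RingHom.ker (Ideal.Quotient.mkₐ D I).toRingHom = I := Ideal.mk_ker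
    rwa [h7] at h6
  · constructor
    · intro h
      let l : D ⧸ I →+* B := Ideal.Quotient.lift I (g : D →+* B) h
      have h3 : Spec.map (CommRingCat.ofHom l) ≫ e.inv ≫ pullback.snd n.left w.left =
          Spec.map (CommRingCat.ofHom (g : D →+* B)) := by
        rw [he, Iso.inv_hom_id_assoc, ← Spec.map_comp, ← CommRingCat.ofHom_comp]
        rfl
      have h4 : (Spec.map (CommRingCat.ofHom l) ≫ e.inv ≫ pullback.fst n.left w.left) ≫ n.left =
          (tMap s g ≫ w).left := by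
        rw [Over.comp_left, tMap_left, ← h3]
        simp only [Category.assoc]
        rw [pullback.condition]
      refine ⟨Over.homMk (Spec.map (CommRingCat.ofHom l) ≫ e.inv ≫ pullback.fst n.left w.left) ?_, ?_⟩
      · rw [← Over.w n, ← Category.assoc, h4, Over.w]
      · apply Over.OverMorphism.ext
        exact h4
    · rintro ⟨z, hz⟩ a ha
      have h3 : z.left ≫ n.left = Spec.map (CommRingCat.ofHom (g : D →+* B)) ≫ w.left := by
        have h := congrArg (fun z => z.left) hz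
        rw [Over.comp_left, Over.comp_left] at h
        exact h
      obtain ⟨φ, hφ⟩ := Spec.map_surjective (pullback.lift z.left _ h3 ≫ e.hom)
      have h4 : Spec.map φ ≫ Spec.map (CommRingCat.ofHom (Ideal.Quotient.mk I)) =
          Spec.map (CommRingCat.ofHom (g : D →+* B)) := by
        rw [hφ, Category.assoc, ← he, pullback.lift_snd]
      rw [← Spec.map_comp] at h4
      have h5 := Spec.map_injective h4
      have h6 : g a = φ.hom (Ideal.Quotient.mk I a) :=
        congrArg (fun f => CommRingCat.Hom.hom f a) h5.symm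
      rw [h6, Ideal.Quotient.eq_zero_iff_mem.2 ha, map_zero]

section Level

variable [IsMonHom i] [Mono i] [Mono s] [Algebra.FiniteType R c.A] [LocallyOfFiniteType G.hom] [Smooth H.hom]
  [QuasiCompact H.hom] [QuasiSeparated H.hom] (hconn : ∀ s : S, _root_.IsConnected (H.hom.base ⁻¹' {s}))
  (hN : Red.IsNormalizerOf i n) (d : ∀ k ≠ 0, Nonempty (InfData.Data s H k))

include c hconn hN d in
theorem norm_iff {B : Type u} [CommRing B] [Algebra R B] (g : tB s B ⟶ G) :
    (∃ z : tB s B ⟶ N, z ≫ n = g) ↔ ∀ k ≠ 0, InfStab i k g := by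
  have hirr : GeometricallyIrreducible H.hom := by
    have : GrpObj (Over.mk H.hom) := inferInstanceAs (GrpObj H)
    exact Groth.Agent.Sga3C.GrpIrr.geometricallyIrreducible_of_connected_fibres H.hom hconn
  obtain ⟨-, -, hN3⟩ := hN
  rw [hN3]
  constructor
  · intro h k _
    exact infStab_of_conj i fun T' t h' => (h T' t h').1
  · intro h T' t h'
    have h2 : ∀ k, InfStab i k g := fun k => (h (k + 1) k.succ_ne_zero).le i k.le_succ
    have h3 : ∀ k, InfStab i k g⁻¹ := fun k => by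
      obtain ⟨m, e, he⟩ := exists_gen c (k + 1)
      exact (infStab_inv c i (d (k + 1) k.succ_ne_zero).some e he g (h (k + 1) k.succ_ne_zero)).le i k.le_succ
    refine ⟨exists_conj_of_infStab i _ h2 T' t h', ?_⟩
    obtain ⟨h'', hh⟩ := exists_conj_of_infStab i _ h3 T' t h'
    refine ⟨h'', ?_⟩
    rw [← hh, GrpObj.comp_inv, _root_.inv_inv]

include c hconn hN d in
/-- The level on an affine piece. -/
theorem exists_level_at [QuasiSeparated G.hom] {D : Type u} [CommRing D] [Algebra R D] (w : tB s D ⟶ G) :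
    ∃ k₀, ∀ k, k₀ ≤ k → ∀ (B : Type u) [CommRing B] [Algebra R B] (φ : D →ₐ[R] B),
      InfStab i (k + 1) (tMap s φ ≫ w) → ∃ z : tB s B ⟶ N, z ≫ n = tMap s φ ≫ w := by
  obtain ⟨⟨N', n', hn1, hn2, hn3⟩, -⟩ := Groth.Agent.S3040.result S G H hconn i
  have hN3 := hN.2.2
  have h2 : ∀ k : ℕ, ∃ 𝔞 : Ideal D, ∀ (B : Type u) [CommRing B] [Algebra R B] (φ : D →ₐ[R] B),
      (∀ a ∈ 𝔞, φ a = 0) ↔ InfStab i (k + 1) (tMap s φ ≫ w) := fun k => by
    obtain ⟨m, e, he⟩ := exists_gen c (k + 1)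
    exact exists_ideal c i (d (k + 1) k.succ_ne_zero).some e he w
  choose 𝔞 h𝔞 using h2
  obtain ⟨I, hI, hI'⟩ := exists_ideal_closed w n'
  have hNN' : ∀ (B : Type u) [CommRing B] [Algebra R B] (g : tB s B ⟶ G),
      (∃ z : tB s B ⟶ N', z ≫ n' = g) ↔ (∃ z : tB s B ⟶ N, z ≫ n = g) := by
    intro B _ _ g
    rw [hn3, hN3]
  have h3 : ∀ (B : Type u) [CommRing B] [Algebra R B] (φ : D →ₐ[R] B),
      (∀ a ∈ I, φ a = 0) ↔ ∀ k, ∀ a ∈ 𝔞 k, φ a = 0 := by
    intro B _ _ g
    rw [hI', hNN', norm_iff c i n hconn hN d]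
    constructor
    · intro h k
      exact (h𝔞 k B g).2 (h (k + 1) k.succ_ne_zero)
    · intro h k hk
      obtain ⟨l, rfl⟩ := Nat.exists_eq_succ_of_ne_zero hk
      exact (h𝔞 l B g).1 (h l)
  have hle : ∀ (J J' : Ideal D), (∀ (B : Type u) [CommRing B] [Algebra R B] (φ : D →ₐ[R] B),
      (∀ a ∈ J', φ a = 0) → ∀ a ∈ J, φ a = 0) → J ≤ J' := by
    intro J J' h a ha
    have h4 := h (D ⧸ J') (Ideal.Quotient.mkₐ R J') (fun b hb =>
      Ideal.Quotient.eq_zero_iff_mem.2 hb) a ha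
    exact Ideal.Quotient.eq_zero_iff_mem.1 h4
  have hmono : Monotone 𝔞 := by
    intro k l hkl
    refine hle _ _ fun B _ _ g hg => ?_
    rw [h𝔞] at hg ⊢
    exact hg.le i (Nat.add_le_add_right hkl 1)
  have hIle : I ≤ ⨆ k, 𝔞 k := by
    refine hle _ _ fun B _ _ g hg => ?_
    rw [h3]
    intro k a ha
    exact hg a (Ideal.mem_iSup_of_mem k ha)
  obtain ⟨k, hk⟩ : ∃ k, I ≤ 𝔞 k := by
    have h4 : IsCompactElement I := (Submodule.fg_iff_compact I).1 hI
    have h5 := (CompleteLattice.isCompactElement_iff_le_of_directed_sSup_le _ I).1 h4 (Set.range 𝔞)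
      (Set.range_nonempty _) (directedOn_range.2 hmono.directed_le) hIle
    obtain ⟨_, ⟨k, rfl⟩, hk⟩ := h5
    exact ⟨k, hk⟩
  refine ⟨k, fun l hl B _ _ φ hφ => ?_⟩
  rw [← hNN', ← hI']
  intro a ha
  exact (h𝔞 l B φ).2 hφ a (hmono hl (hk ha))

end Level

/-- **The normaliser is an infinitesimal stabiliser.** -/
theorem exists_level {V : S.Opens} (hV : IsAffineOpen V) (c : IdChart G hV.fromSpec) [IsMonHom i] [Mono i]
    [Algebra.FiniteType Γ(S, V) c.A] [LocallyOfFiniteType G.hom] [QuasiCompact G.hom] [QuasiSeparated G.hom]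
    [Smooth H.hom] [QuasiCompact H.hom] [QuasiSeparated H.hom]
    (hconn : ∀ s : S, _root_.IsConnected (H.hom.base ⁻¹' {s}))
    (hN : Red.IsNormalizerOf i n) (d : ∀ k ≠ 0, Nonempty (InfData.Data hV.fromSpec H k)) :
    ∃ k ≠ 0, ∀ (B : Type u) [CommRing B] [Algebra Γ(S, V) B] (g : tB hV.fromSpec B ⟶ G),
      (∃ z : tB hV.fromSpec B ⟶ N, z ≫ n = g) ↔ InfStab i k g := by
  have hn2 : Mono n := hN.2.1
  have hcomp : IsCompact ((G.hom ⁻¹ᵁ V : G.left.Opens) : Set G.left) :=
    QuasiCompact.isCompact_preimage (f := G.hom) _ V.2 hV.isCompact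
  -- an affine neighbourhood of every point
  have hch : ∀ p : G.left, p ∈ G.hom ⁻¹ᵁ V → ∃ (U : G.left.Opens) (_ : IsAffineOpen U) (_ : p ∈ U),
      U ≤ G.hom ⁻¹ᵁ V := by
    intro p hp
    obtain ⟨U, hU, hpU, hUV⟩ := exists_isAffineOpen_mem_and_subset (U := G.hom ⁻¹ᵁ V) (x := p) hp
    exact ⟨U, hU, hpU, hUV⟩
  have hlev : ∀ p : G.left, p ∈ G.hom ⁻¹ᵁ V → ∃ (U : G.left.Opens) (_ : p ∈ U) (k₀ : ℕ), ∀ k, k₀ ≤ k →
      ∀ (B : Type u) [CommRing B] [Algebra Γ(S, V) B] (g : tB hV.fromSpec B ⟶ G),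
        Set.range g.left ⊆ U → InfStab i (k + 1) g → ∃ z : tB hV.fromSpec B ⟶ N, z ≫ n = g := by
    intro p hp
    obtain ⟨U, hU, hpU, hUV⟩ := hch p hp
    let ρ : Γ(S, V) ⟶ Γ(G.left, U) := G.hom.appLE V U hUV
    have h1 : Spec.map ρ ≫ hV.fromSpec = hU.fromSpec ≫ G.hom := hV.SpecMap_appLE_fromSpec G.hom hU hUV
    let _ : Algebra Γ(S, V) Γ(G.left, U) := ρ.hom.toAlgebra
    let w : tB hV.fromSpec Γ(G.left, U) ⟶ G := Over.homMk hU.fromSpec h1.symm
    obtain ⟨k₀, hk₀⟩ := exists_level_at c i n hconn hN d w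
    refine ⟨U, hpU, k₀, fun k hk B _ _ g hg hinf => ?_⟩
    have hr : Set.range g.left ⊆ Set.range hU.fromSpec := by
      rw [hU.range_fromSpec]
      exact hg
    obtain ⟨φ, hφ⟩ := Spec.map_surjective (IsOpenImmersion.lift hU.fromSpec g.left hr)
    have hφj : Spec.map φ ≫ hU.fromSpec = g.left := by
      rw [hφ, IsOpenImmersion.lift_fac]
    have hφR : (φ.hom).comp (algebraMap Γ(S, V) Γ(G.left, U)) = algebraMap Γ(S, V) B := by
      have h3 : Spec.map (CommRingCat.ofHom (algebraMap Γ(S, V) B)) ≫ hV.fromSpec =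
          Spec.map (CommRingCat.ofHom (φ.hom.comp (algebraMap Γ(S, V) Γ(G.left, U)))) ≫ hV.fromSpec := by
        have h5 : CommRingCat.ofHom (algebraMap Γ(S, V) Γ(G.left, U)) = ρ := rfl
        rw [CommRingCat.ofHom_comp, Spec.map_comp, Category.assoc, h5, h1, CommRingCat.ofHom_hom,
          ← Category.assoc, hφj, Over.w g]
        rfl
      rw [cancel_mono] at h3
      have h4 := Spec.map_injective h3
      exact (congrArg CommRingCat.Hom.hom h4).symm
    let φ' : Γ(G.left, U) →ₐ[Γ(S, V)] B :=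
      { φ.hom with commutes' := fun r => congrArg (fun f : Γ(S, V) →+* B => f r) hφR }
    have hg' : tMap hV.fromSpec φ' ≫ w = g := Over.OverMorphism.ext hφj
    rw [← hg'] at hinf ⊢
    exact hk₀ k hk B φ' hinf
  choose! U hpU k₀ hk₀ using hlev
  obtain ⟨t, ht⟩ := hcomp.elim_nhds_subcover' (fun p hp => (U p : Set G.left))
    fun p hp => (U p).2.mem_nhds (hpU p hp)
  let k : ℕ := t.sup fun p => k₀ p
  have hkp : ∀ p ∈ t, k₀ p ≤ k := fun p hp => Finset.le_sup (f := fun p : ↥((G.hom ⁻¹ᵁ V : G.left.Opens) : Set G.left) => k₀ p) hp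
  refine ⟨k + 1, k.succ_ne_zero, fun B _ _ g => ⟨fun h => ?_, fun h => ?_⟩⟩
  · exact (norm_iff c i n hconn hN d g).1 h (k + 1) k.succ_ne_zero
  · have hgV : ∀ x, g.left x ∈ G.hom ⁻¹ᵁ V := by
      intro x
      have h1 : G.hom (g.left x) = hV.fromSpec ((Spec.map (CommRingCat.ofHom (algebraMap Γ(S, V) B))) x) := by
        rw [← Scheme.Hom.comp_apply, ← Scheme.Hom.comp_apply]
        exact congrArg (fun f : Spec (CommRingCat.of B) ⟶ S => f x) (Over.w g)
      change G.hom (g.left x) ∈ V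
      rw [h1]
      have h2 : hV.fromSpec ((Spec.map (CommRingCat.ofHom (algebraMap Γ(S, V) B))) x) ∈
        Set.range hV.fromSpec := ⟨_, rfl⟩
      rwa [hV.range_fromSpec] at h2
    have h1 : ∃ z : Spec (CommRingCat.of B) ⟶ N.left, z ≫ n.left = g.left := by
      refine exists_fac_of_affine n.left g.left fun x => ?_
      have h2 := ht (hgV x)
      simp only [Set.mem_iUnion] at h2
      obtain ⟨p, hp, hxp⟩ := h2
      obtain ⟨W, hW, hxW, hWU⟩ := exists_isAffineOpen_mem_and_subset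
        (X := Spec (CommRingCat.of B)) (U := g.left ⁻¹ᵁ U p) (x := x) hxp
      refine ⟨W, hW, hxW, ?_⟩
      obtain ⟨ψ, hψ⟩ := Spec.map_surjective hW.fromSpec
      let _ : Algebra Γ(S, V) Γ(Spec (CommRingCat.of B), W) := (ψ.hom.comp (algebraMap Γ(S, V) B)).toAlgebra
      let ψ' : B →ₐ[Γ(S, V)] Γ(Spec (CommRingCat.of B), W) := { ψ.hom with commutes' := fun r => rfl }
      have hψ' : (tMap hV.fromSpec ψ').left = hW.fromSpec := hψ
      have h3 : Set.range (tMap hV.fromSpec ψ' ≫ g).left ⊆ U p := by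
        rintro _ ⟨y, rfl⟩
        rw [Over.comp_left, hψ', Scheme.Hom.comp_apply]
        have h4 : hW.fromSpec y ∈ Set.range hW.fromSpec := ⟨_, rfl⟩
        rw [hW.range_fromSpec] at h4
        exact hWU h4
      obtain ⟨z, hz⟩ := hk₀ p p.2 k (hkp p hp) _ (tMap hV.fromSpec ψ' ≫ g) h3 (h.comp i (tMap hV.fromSpec ψ'))
      refine ⟨z.left, ?_⟩
      have h4 := congrArg (fun z => z.left) hz
      rw [Over.comp_left, Over.comp_left, hψ'] at h4
      exact h4
    obtain ⟨z, hz⟩ := h1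
    exact ⟨Over.homMk z (by rw [← Over.w n, ← Category.assoc, hz, Over.w]), Over.OverMorphism.ext hz⟩

end K983.NormChart
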