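import Groth.Agent.SGA3x.K983.NormChart
import Groth.Agent.RedSub.H672.OrbMat
import Groth.Agent.RedSub.H672.Level

/-!
# The orbit map to the Grassmannian, in matrix form

For a finite family `e` of elements of the chart generating it modulo the `k`-th power of the augmentation ideal the
matrix `mat g` of the point `g` of `G` has surjective `mulVec`, is natural, and its kernel is contained in
that of `mat g'` if and only if `g⁻¹ g'` stabilises the infinitesimal neighbourhood of the unit in `H`.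
-/

set_option autoImplicit false
set_option linter.unusedSectionVars false

universe u

open CategoryTheory Limits MonoidalCategory CartesianMonoidalCategory MonObj GrpObj AlgebraicGeometry TensorProduct Matrix

namespace K983.NormChart

open Groth.Agent.Sga3B.PinMod Groth.Agent.RedSub.H672.InfNorm Groth.Agent.RedSub.H672
  Groth.Agent.Sga3C.CWSection Groth.Agent.Fga.GrassChart
  Groth.Agent.Fga.GrassBasic Groth.Agent.RedSub.H672.KerMat
open Groth.Agent.RedSub.H672.OrbAlg (formB formB_tmul formB_map sum_formB)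

variable {S : Scheme.{u}} {G H : Over S} [GrpObj G] [GrpObj H] {R : Type u} [CommRing R]
  {s : Spec (CommRingCat.of R) ⟶ S} (c : IdChart G s) (i : H ⟶ G) {k : ℕ} (d : InfData.Data s H k)
  {B C : Type u} [CommRing B] [Algebra R B] [CommRing C] [Algebra R C] [IsMonHom i] [Mono s]

variable {J : Type} [Fintype J] [DecidableEq J] (e : J → c.A)

/-- The matrix of a point. -/
noncomputable def mat (g : tB s B ⟶ G) : Matrix (Fin d.m) (J ⊕ Fin d.m) B :=
  Matrix.of fun i' => Sum.elim (fun j => formB B (d.lam i') (cj c i d g (e j)))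
    (fun l => (if i' = l then 1 else 0) - algebraMap R B (d.lam i' (d.x l)))

/-- The combination of the values at `e` of the conjugate point. -/
noncomputable def comb (g : tB s B ⟶ G) (v : J → B) : B ⊗[R] d.E := ∑ j, v j • cj c i d g (e j)

theorem mat_mulVec (g : tB s B ⟶ G) (v : J ⊕ Fin d.m → B) (i' : Fin d.m) :
    (mat c i d e g *ᵥ v) i' = formB B (d.lam i') (comb c i d e g (fun j => v (Sum.inl j))) +
      (v (Sum.inr i') - formB B (d.lam i') (∑ l, v (Sum.inr l) • ((1 : B) ⊗ₜ[R] d.x l))) := by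
  rw [Matrix.mulVec, dotProduct, Fintype.sum_sum_type]
  congr 1
  · rw [comb, map_sum]
    refine Finset.sum_congr rfl fun j _ => ?_
    rw [map_smul, smul_eq_mul, mul_comm]
    rfl
  · rw [map_sum]
    have h1 : ∀ l, mat c i d e g i' (Sum.inr l) * v (Sum.inr l) =
        (if i' = l then v (Sum.inr l) else 0) - formB B (d.lam i') (v (Sum.inr l) • ((1 : B) ⊗ₜ[R] d.x l)) := by
      intro l
      have h2 : mat c i d e g i' (Sum.inr l) = (if i' = l then 1 else 0) - algebraMap R B (d.lam i' (d.x l)) := rfl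
      rw [h2, map_smul, formB_tmul, _root_.one_mul, smul_eq_mul, sub_mul, mul_comm (algebraMap R B _)]
      congr 1
      split_ifs <;> simp
    rw [Finset.sum_congr rfl fun l _ => h1 l, Finset.sum_sub_distrib]
    simp

/-- Naturality of the matrix. -/
theorem mat_map (φ : B →ₐ[R] C) (g : tB s B ⟶ G) :
    mat c i d e (tMap s φ ≫ g) = (mat c i d e g).map φ := by
  ext i' k
  rcases k with j | l
  · change formB C (d.lam i') (cj c i d (tMap s φ ≫ g) (e j)) = φ (formB B (d.lam i') (cj c i d g (e j)))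
    rw [← cj_nat, ← formB_map]
    rfl
  · change (if i' = l then 1 else 0) - algebraMap R C (d.lam i' (d.x l)) =
      φ ((if i' = l then 1 else 0) - algebraMap R B (d.lam i' (d.x l)))
    rw [map_sub, AlgHom.commutes]
    split_ifs <;> simp

theorem mem_kerM_mat (g : tB s B ⟶ G) (v : J ⊕ Fin d.m → B) :
    v ∈ kerM (mat c i d e g) ↔ comb c i d e g (fun j => v (Sum.inl j)) = 0 ∧
      ∀ i', v (Sum.inr i') = formB B (d.lam i') (∑ l, v (Sum.inr l) • ((1 : B) ⊗ₜ[R] d.x l)) := by
  have hx := d.hx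
  rw [mem_kerM]
  constructor
  · intro h
    have h1 : ∀ i', formB B (d.lam i') (comb c i d e g (fun j => v (Sum.inl j))) +
      (v (Sum.inr i') - formB B (d.lam i') (∑ l, v (Sum.inr l) • ((1 : B) ⊗ₜ[R] d.x l))) = 0 := by
      intro i'
      rw [← mat_mulVec, h]
      rfl
    have h2 : comb c i d e g (fun j => v (Sum.inl j)) = 0 := by
      have h3 : ∑ i', (formB B (d.lam i') (comb c i d e g (fun j => v (Sum.inl j))) +
        (v (Sum.inr i') - formB B (d.lam i') (∑ l, v (Sum.inr l) • ((1 : B) ⊗ₜ[R] d.x l)))) •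
          ((1 : B) ⊗ₜ[R] d.x i') = 0 := Finset.sum_eq_zero fun i' _ => by rw [h1 i', zero_smul]
      simp only [add_smul, sub_smul, Finset.sum_add_distrib, Finset.sum_sub_distrib, sum_formB hx, sub_self,
        add_zero] at h3
      exact h3
    refine ⟨h2, fun i' => ?_⟩
    have h3 := h1 i'
    rw [h2, map_zero, zero_add, sub_eq_zero] at h3
    exact h3
  · rintro ⟨h1, h2⟩
    ext i'
    rw [mat_mulVec, h1, map_zero, zero_add, ← h2 i', sub_self]
    rfl

section Gen

variable [Mono i] (he : ∀ f : c.A, ∃ r : J → R, f - ∑ j, r j • e j ∈ RingHom.ker c.ε ^ k)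

include he in
/-- The value of `rho` is a combination of the values at `e`. -/
theorem exists_comb (z : B ⊗[R] c.A) : ∃ v : J → B, ∀ g : tB s B ⟶ G, rho c i d g z = comb c i d e g v := by
  induction z with
  | zero => exact ⟨0, fun g => by simp [comb]⟩
  | add a b ha hb =>
    obtain ⟨v, hv⟩ := ha
    obtain ⟨w, hw⟩ := hb
    refine ⟨v + w, fun g => ?_⟩
    rw [map_add, hv, hw]
    simp only [comb, Pi.add_apply, add_smul, Finset.sum_add_distrib]
  | tmul b f =>
    obtain ⟨r, hr⟩ := he f
    refine ⟨fun j => b * algebraMap R B (r j), fun g => ?_⟩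
    have h1 := cj_eq_zero c i d g _ hr
    rw [map_sub, sub_eq_zero] at h1
    rw [rho_tmul, h1, map_sum, comb, Finset.smul_sum]
    refine Finset.sum_congr rfl fun j _ => ?_
    rw [map_smul, mul_smul, algebraMap_smul]

include he in
theorem mat_surjective (g : tB s B ⟶ G) : Function.Surjective (mat c i d e g).mulVec := by
  intro w
  obtain ⟨z, hz⟩ := rho_surjective c i d g (∑ l, w l • ((1 : B) ⊗ₜ[R] d.x l))
  obtain ⟨v, hv⟩ := exists_comb c i d e he z
  refine ⟨Sum.elim v w, ?_⟩
  ext i'
  rw [mat_mulVec]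
  have h1 : comb c i d e g (fun j => (Sum.elim v w : J ⊕ Fin d.m → B) (Sum.inl j)) =
      ∑ l, w l • ((1 : B) ⊗ₜ[R] d.x l) := by
    rw [← hz, hv g]
    rfl
  rw [h1]
  simp

include he in
/-- The kernels detect the stabiliser. -/
theorem kerM_mat_le_iff (a b : tB s B ⟶ G) :
    kerM (mat c i d e a) ≤ kerM (mat c i d e b) ↔ St i d (a⁻¹ * b) := by
  rw [st_inv_mul_iff]
  constructor
  · intro h
    have h1 : ∀ v : J → B, comb c i d e a v = 0 → comb c i d e b v = 0 := by
      intro v hv
      have h2 : (Sum.elim v 0 : J ⊕ Fin d.m → B) ∈ kerM (mat c i d e a) := by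
        rw [mem_kerM_mat]
        refine ⟨hv, fun i' => ?_⟩
        simp
      exact ((mem_kerM_mat c i d e b _).1 (h h2)).1
    have h2 : ∀ z ∈ RingHom.ker (rho c i d a), rho c i d b z = 0 := by
      intro z hz
      obtain ⟨v, hv⟩ := exists_comb c i d e he z
      rw [hv b]
      apply h1
      rw [← hv a]
      exact hz
    let τ : B ⊗[R] d.E →ₐ[B] B ⊗[R] d.E :=
      (Ideal.Quotient.liftₐ (RingHom.ker (rho c i d a)) (rho c i d b) h2).comp
        (Ideal.quotientKerAlgEquivOfSurjective (rho_surjective c i d a)).symm.toAlgHom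
    have hτ : ∀ z, τ (rho c i d a z) = rho c i d b z := by
      intro z
      have h3 : (Ideal.quotientKerAlgEquivOfSurjective (rho_surjective c i d a)).symm (rho c i d a z) =
          Ideal.Quotient.mk _ z := by
        rw [AlgEquiv.symm_apply_eq]
        rfl
      change (Ideal.Quotient.liftₐ (RingHom.ker (rho c i d a)) (rho c i d b) h2)
        ((Ideal.quotientKerAlgEquivOfSurjective (rho_surjective c i d a)).symm (rho c i d a z)) = _
      rw [h3]
      rfl
    refine ⟨τ, ?_⟩
    rw [← ptA_cj c i d b, ← ptA_cj c i d a, tMap_ptA]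
    congr 1
    ext f
    have h3 := hτ (1 ⊗ₜ f)
    rw [rho_tmul, rho_tmul, one_smul, one_smul] at h3
    exact h3.symm
  · rintro ⟨τ, hτ⟩ v hv
    rw [mem_kerM_mat] at hv ⊢
    refine ⟨?_, hv.2⟩
    have hτ' : cj c i d b = (τ.restrictScalars R).comp (cj c i d a) := by
      apply ptA_injective c
      rw [← tMap_ptA, ptA_cj, ptA_cj, hτ]
    have h1 : comb c i d e b (fun j => v (Sum.inl j)) = τ (comb c i d e a (fun j => v (Sum.inl j))) := by
      rw [comb, comb, map_sum]
      refine Finset.sum_congr rfl fun j _ => ?_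
      rw [hτ', map_smul]
      rfl
    rw [h1, hv.1, map_zero]

include d he in
/-- The stabiliser condition is closed. -/
theorem exists_ideal {D : Type u} [CommRing D] [Algebra R D] (w : tB s D ⟶ G) :
    ∃ 𝔞 : Ideal D, ∀ (B : Type u) [CommRing B] [Algebra R B] (φ : D →ₐ[R] B),
      (∀ a ∈ 𝔞, φ a = 0) ↔ InfStab i k (tMap s φ ≫ w) := by
  let M₁ := mat c i d e (1 : tB s R ⟶ G)
  refine ⟨Ideal.span {a | ∃ v ∈ kerM M₁, ∃ i', a = (mat c i d e w *ᵥ fun k => algebraMap R D (v k)) i'}, ?_⟩
  intro B _ _ g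
  have h1 : (1 : tB s B ⟶ G) = tMap s (Algebra.ofId R B) ≫ (1 : tB s R ⟶ G) := by rw [MonObj.comp_one]
  have h2 : St i d (tMap s g ≫ w) ↔ kerM (mat c i d e (1 : tB s B ⟶ G)) ≤ kerM (mat c i d e (tMap s g ≫ w)) := by
    rw [kerM_mat_le_iff c i d e he, inv_one, _root_.one_mul]
  have h3 : kerM (mat c i d e (1 : tB s B ⟶ G)) = bc (algebraMap R B) (kerM M₁) := by
    rw [bc_kerM (algebraMap R B) (mat_surjective c i d e he 1), h1, mat_map]
    rfl
  rw [infStab_iff_st i d, h2, h3, bc_le_iff]
  have h4 : ∀ v : J ⊕ Fin d.m → R, (mat c i d e (tMap s g ≫ w) *ᵥ fun k => algebraMap R B (v k)) =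
      fun i' => g ((mat c i d e w *ᵥ fun k => algebraMap R D (v k)) i') := by
    intro v
    have h6 := map_mulVec (g : D →+* B) (mat c i d e w) (fun k => algebraMap R D (v k))
    have h7 : (fun k => (g : D →+* B) (algebraMap R D (v k))) = fun k => algebraMap R B (v k) := by
      ext k
      exact g.commutes _
    rw [mat_map]
    rw [h7] at h6
    exact h6
  constructor
  · intro h v hv
    rw [mem_kerM, h4]
    ext i'
    exact h _ (Ideal.subset_span ⟨v, hv, i', rfl⟩)
  · intro h a ha
    have h5 : Ideal.span {a | ∃ v ∈ kerM M₁, ∃ i', a = (mat c i d e w *ᵥ fun k => algebraMap R D (v k)) i'} ≤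
        RingHom.ker g := by
      rw [Ideal.span_le]
      rintro _ ⟨v, hv, i', rfl⟩
      have h6 := h v hv
      rw [mem_kerM, h4] at h6
      exact congrFun h6 i'
    exact h5 ha

include d he in
/-- The infinitesimal stabiliser is a group. -/
theorem infStab_inv (g : tB s B ⟶ G) (hg : InfStab i k g) : InfStab i k g⁻¹ := by
  rw [infStab_iff_st i d] at hg ⊢
  have h1 : g = 1⁻¹ * g := by group
  have h2 : g⁻¹ = g⁻¹ * 1 := by group
  rw [h1, ← kerM_mat_le_iff c i d e he] at hg
  rw [h2, ← kerM_mat_le_iff c i d e he]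
  rw [Level.kerM_eq_of_le (mat_surjective c i d e he _) (mat_surjective c i d e he _) hg]

end Gen

/-- Generators of the chart modulo a power of the augmentation ideal. -/
theorem exists_gen [Algebra.FiniteType R c.A] (k : ℕ) : ∃ (m : ℕ) (e : Fin m → c.A),
    ∀ f : c.A, ∃ a : Fin m → R, f - ∑ j, a j • e j ∈ RingHom.ker c.ε ^ k := by
  have h1 : Algebra.FiniteType R (c.A ⧸ RingHom.ker c.ε ^ k) :=
    Algebra.FiniteType.of_surjective (Ideal.Quotient.mkₐ R _) (Ideal.Quotient.mkₐ_surjective _ _)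
  have h2 : Algebra.IsIntegral R (c.A ⧸ RingHom.ker c.ε ^ k) := by
    constructor
    intro z
    obtain ⟨a, rfl⟩ := Ideal.Quotient.mk_surjective z
    refine ⟨(Polynomial.X - Polynomial.C (c.ε a)) ^ k, (Polynomial.monic_X_sub_C _).pow k, ?_⟩
    rw [Polynomial.eval₂_pow, Polynomial.eval₂_sub, Polynomial.eval₂_X, Polynomial.eval₂_C]
    have h3 : algebraMap R (c.A ⧸ RingHom.ker c.ε ^ k) (c.ε a) =
        Ideal.Quotient.mk (RingHom.ker c.ε ^ k) (algebraMap R c.A (c.ε a)) := rfl
    rw [h3, ← map_sub, ← map_pow, Ideal.Quotient.eq_zero_iff_mem]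
    refine Ideal.pow_mem_pow ?_ k
    rw [RingHom.mem_ker, map_sub, AlgHom.commutes]
    exact sub_self _
  have h3 : Module.Finite R (c.A ⧸ RingHom.ker c.ε ^ k) := Algebra.IsIntegral.finite
  obtain ⟨m, x, hx⟩ := Module.Finite.exists_fin (R := R) (M := c.A ⧸ RingHom.ker c.ε ^ k)
  choose y hy using fun j => Ideal.Quotient.mk_surjective (x j)
  refine ⟨m, y, fun f => ?_⟩
  have h4 : Ideal.Quotient.mk (RingHom.ker c.ε ^ k) f ∈ Submodule.span R (Set.range x) := by
    rw [hx]
    trivial
  obtain ⟨a, ha⟩ := (Submodule.mem_span_range_iff_exists_fun R).1 h4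
  refine ⟨a, ?_⟩
  rw [← Ideal.Quotient.eq_zero_iff_mem, map_sub, map_sum, ← ha, sub_eq_zero]
  refine Finset.sum_congr rfl fun j _ => ?_
  rw [← hy j]
  rfl

end K983.NormChart
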