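import Groth.Agent.SGA3x.K983.NormLevel
import Groth.Agent.RedSub.H672.NormRel
import Groth.Agent.Fga.Plucker489

/-!
# The orbit map to projective space, locally on the base, for a group of finite presentation

`G` of finite presentation over `S`, `H → G` a monomorphism, `H` smooth with connected fibres, `N` the normaliser
of `H`. Locally on `S` there is a morphism from `G` to a projective space whose kernel pair is the relation `a⁻¹ b ∈ N`.
-/

set_option autoImplicit false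
set_option linter.unusedSectionVars false

universe u

open CategoryTheory Limits MonoidalCategory CartesianMonoidalCategory MonObj GrpObj AlgebraicGeometry TensorProduct

namespace K983.NormChart

open Groth.Agent.Sga3B.PinMod Groth.Agent.RedSub.H672.InfNorm Groth.Agent.RedSub.H672
  Groth.Agent.Sga3C.QuotGlue Groth.Agent.Sga3C.QuotRel Groth.Agent.Fga.Grass Groth.Agent.Fga.RingFunRep
  Groth.Agent.Fga.RingFunBasic Groth.Agent.Fga.GrassChart Groth.Agent.Fga.GrassBasic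
  Groth.Agent.RedSub.H672.KerMat Groth.Agent.RedSub.H672.NormRel

/-- A pair of affine neighbourhoods of a section. -/
structure Nhd {X S : Scheme.{u}} (f : X ⟶ S) (e : S ⟶ X) (V : S.Opens) where
  /-- the neighbourhood -/
  U : X.Opens
  hU : IsAffineOpen U
  hUV : U ≤ f ⁻¹ᵁ V
  hVU : V ≤ e ⁻¹ᵁ U

theorem Nhd.exists_of {X S : Scheme.{u}} (f : X ⟶ S) (e : S ⟶ X) (he : e ≫ f = 𝟙 S) {V0 : S.Opens}
    (hV0 : IsAffineOpen V0) (s : S) (hsV0 : s ∈ V0) : ∃ a : Γ(S, V0), s ∈ S.basicOpen a ∧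
      Nonempty (Nhd f e (S.basicOpen a)) := by
  have hfs : f (e s) = s := by
    rw [← Scheme.Hom.comp_apply, he]
    rfl
  obtain ⟨U, hU, hsU, hUV⟩ := exists_isAffineOpen_mem_and_subset (U := f ⁻¹ᵁ V0) (x := e s) (by
    change f (e s) ∈ V0
    rwa [hfs])
  have hUV' : U ≤ f ⁻¹ᵁ V0 := hUV
  obtain ⟨a, ha, hsa⟩ := hV0.exists_basicOpen_le (V := e ⁻¹ᵁ U) ⟨s, hsU⟩ hsV0
  have h1 : X.basicOpen (f.appLE V0 U hUV' a) = U ⊓ f ⁻¹ᵁ S.basicOpen a := by
    rw [Scheme.basicOpen_appLE]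
  refine ⟨a, hsa, ⟨⟨X.basicOpen (f.appLE V0 U hUV' a), hU.basicOpen _, ?_, ?_⟩⟩⟩
  · rw [h1]
    exact inf_le_right
  · rw [h1]
    intro z hz
    refine ⟨ha hz, ?_⟩
    change f (e z) ∈ S.basicOpen a
    rwa [← Scheme.Hom.comp_apply, he]

/-- Restriction to a basic open subset of the base. -/
theorem Nhd.basicOpen {X S : Scheme.{u}} (f : X ⟶ S) (e : S ⟶ X) (he : e ≫ f = 𝟙 S) {V0 : S.Opens}
    (N : Nhd f e V0) (a : Γ(S, V0)) : Nonempty (Nhd f e (S.basicOpen a)) := by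
  have h1 : X.basicOpen (f.appLE V0 N.U N.hUV a) = N.U ⊓ f ⁻¹ᵁ S.basicOpen a := by
    rw [Scheme.basicOpen_appLE]
  refine ⟨⟨X.basicOpen (f.appLE V0 N.U N.hUV a), N.hU.basicOpen _, ?_, ?_⟩⟩
  · rw [h1]
    exact inf_le_right
  · rw [h1]
    intro z hz
    refine ⟨N.hVU (S.basicOpen_le a hz), ?_⟩
    change f (e z) ∈ S.basicOpen a
    rwa [← Scheme.Hom.comp_apply, he]

theorem exists_nhd₂ {X Y S : Scheme.{u}} (f : X ⟶ S) (e : S ⟶ X) (he : e ≫ f = 𝟙 S) (f' : Y ⟶ S) (e' : S ⟶ Y)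
    (he' : e' ≫ f' = 𝟙 S) (s : S) : ∃ V : S.Opens, IsAffineOpen V ∧ s ∈ V ∧ Nonempty (Nhd f e V) ∧
      Nonempty (Nhd f' e' V) := by
  obtain ⟨V0, hV0, hsV0, -⟩ := exists_isAffineOpen_mem_and_subset (U := (⊤ : S.Opens)) (x := s) trivial
  obtain ⟨a, hsa, ⟨N⟩⟩ := Nhd.exists_of f e he hV0 s hsV0
  obtain ⟨b, hsb, hN'⟩ := Nhd.exists_of f' e' he' (hV0.basicOpen a) s hsa
  exact ⟨S.basicOpen b, (hV0.basicOpen a).basicOpen b, hsb, Nhd.basicOpen f e he N b, hN'⟩

variable {S : Scheme.{u}} {G H N : Over S} [GrpObj G] [GrpObj H] [GrpObj N]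

theorem one_hom (G : Over S) [GrpObj G] : η[G].left ≫ G.hom = 𝟙 S := Over.w η[G]

/-- The chart of a pair of affine neighbourhoods. -/
theorem exists_idChart {V : S.Opens} (hV : IsAffineOpen V) (M : Nhd G.hom η[G].left V) [LocallyOfFiniteType G.hom] :
    ∃ c : IdChart G hV.fromSpec, Algebra.FiniteType Γ(S, V) c.A := by
  let ρ : Γ(S, V) ⟶ Γ(G.left, M.U) := G.hom.appLE V M.U M.hUV
  let δ : Γ(G.left, M.U) ⟶ Γ(S, V) := Scheme.Hom.appLE (η[G].left) M.U V M.hVU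
  have h1 : Spec.map ρ ≫ hV.fromSpec = M.hU.fromSpec ≫ G.hom := hV.SpecMap_appLE_fromSpec G.hom M.hU M.hUV
  have h2 : Spec.map δ ≫ M.hU.fromSpec = hV.fromSpec ≫ η[G].left :=
    M.hU.SpecMap_appLE_fromSpec η[G].left hV M.hVU
  have h3 : ρ ≫ δ = 𝟙 _ := by
    apply Spec.map_injective
    rw [← cancel_mono hV.fromSpec, Spec.map_comp, Category.assoc, h1, ← Category.assoc, h2, Category.assoc,
      one_hom]
    simp
  let _ : Algebra Γ(S, V) Γ(G.left, M.U) := ρ.hom.toAlgebra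
  have hft : Algebra.FiniteType Γ(S, V) Γ(G.left, M.U) := G.hom.finiteType_appLE hV M.hU M.hUV
  let δ' : Γ(G.left, M.U) →ₐ[Γ(S, V)] Γ(S, V) := { δ.hom with
    commutes' := fun r => congrArg (fun f => CommRingCat.Hom.hom f r) h3 }
  exact ⟨{ A := Γ(G.left, M.U), j := M.hU.fromSpec, hj := h1.symm, ε := δ', hε := h2 }, hft⟩

theorem exists_infData_of {V : S.Opens} (hV : IsAffineOpen V) (M : Nhd H.hom η[H].left V) [Smooth H.hom] {k : ℕ}
    (hk : k ≠ 0) : Nonempty (InfData.Data (R := Γ(S, V)) hV.fromSpec H k) := by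
  let ρ : Γ(S, V) ⟶ Γ(H.left, M.U) := H.hom.appLE V M.U M.hUV
  let δ : Γ(H.left, M.U) ⟶ Γ(S, V) := Scheme.Hom.appLE (η[H].left) M.U V M.hVU
  have h1 : Spec.map ρ ≫ hV.fromSpec = M.hU.fromSpec ≫ H.hom := hV.SpecMap_appLE_fromSpec H.hom M.hU M.hUV
  have h2 : Spec.map δ ≫ M.hU.fromSpec = hV.fromSpec ≫ η[H].left :=
    M.hU.SpecMap_appLE_fromSpec η[H].left hV M.hVU
  have h3 : ρ ≫ δ = 𝟙 _ := by
    apply Spec.map_injective
    rw [← cancel_mono hV.fromSpec, Spec.map_comp, Category.assoc, h1, ← Category.assoc, h2, Category.assoc,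
      one_hom]
    simp
  algebraize [ρ.hom]
  have hsm : Algebra.Smooth Γ(S, V) Γ(H.left, M.U) := H.hom.smooth_appLE hV M.hU M.hUV
  let δ' : Γ(H.left, M.U) →ₐ[Γ(S, V)] Γ(S, V) := { δ.hom with
    commutes' := fun r => congrArg (fun f => CommRingCat.Hom.hom f r) h3 }
  exact InfData.nonempty_infData (R := Γ(S, V)) hV.fromSpec H (D := Γ(H.left, M.U)) M.hU.fromSpec h1.symm δ' h2 hk

/-- The data of an affine piece. -/
theorem exists_data [LocallyOfFiniteType G.hom] [Smooth H.hom] (x : S) :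
    ∃ (V : S.Opens) (hV : IsAffineOpen V) (c : IdChart G hV.fromSpec), x ∈ V ∧
      Algebra.FiniteType Γ(S, V) c.A ∧ ∀ k ≠ 0, Nonempty (InfData.Data hV.fromSpec H k) := by
  obtain ⟨V, hV, hxV, ⟨M⟩, ⟨M'⟩⟩ := exists_nhd₂ G.hom η[G].left (one_hom G) H.hom η[H].left (one_hom H) x
  obtain ⟨c, hc⟩ := exists_idChart hV M
  exact ⟨V, hV, c, hxV, hc, fun k hk => exists_infData_of hV M' hk⟩

section Orb

variable {R : Type u} [CommRing R] {s : Spec (CommRingCat.of R) ⟶ S} [Mono s] (c : IdChart G s) (i : H ⟶ G)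
  {k : ℕ} (d : InfData.Data s H k) [IsMonHom i] [Mono i] [Algebra.FiniteType R c.A]

include c d in
/-- **The orbit map** on a scheme `W` over `Spec R` with a morphism to `G`. -/
theorem exists_orbMap {W : Scheme.{u}} (w : W ⟶ G.left) (π : W ⟶ Spec (CommRingCat.of R)) (hw : w ≫ G.hom = π ≫ s) :
    ∃ (m : ℕ) (f : W ⟶ CohB1.ProjSpace m (ULift.{u} ℤ)),
      ∀ (B : Type u) [CommRing B] [Algebra R B] (a b : Spec (CommRingCat.of B) ⟶ W) (g g' : tB s B ⟶ G),
        g.left = a ≫ w → g'.left = b ≫ w → (a ≫ f = b ≫ f ↔ InfStab i k (g⁻¹ * g')) := by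
  obtain ⟨m, e, he⟩ := exists_gen c k
  have hsurj : ∀ {B : Type u} [CommRing B] [Algebra R B] (g : tB s B ⟶ G),
      Function.Surjective (mat c i d e g).mulVec := fun g => mat_surjective c i d e he g
  obtain ⟨Gr, r, -, -⟩ := exists_grass.{u} (Fin m ⊕ Fin d.m) d.m
  obtain ⟨M, p, hp⟩ := Groth.Agent.Fga.Plucker489.exists_plucker r
  -- the algebra structure of a point
  have halg : ∀ {B : CommRingCat.{u}} (t : Spec B ⟶ W), ∃ ρ : CommRingCat.of R ⟶ B, Spec.map ρ = t ≫ π :=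
    fun t => Spec.map_surjective _
  choose ρ hρ using @halg
  let gOf : ∀ {B : CommRingCat.{u}} (t : Spec B ⟶ W),
      @tB S R _ s B _ (ρ t).hom.toAlgebra ⟶ G := fun {B} t =>
    letI : Algebra R B := (ρ t).hom.toAlgebra
    Over.homMk (t ≫ w) (by
      rw [Category.assoc, hw, ← Category.assoc, ← hρ]
      rfl)
  let qOf : ∀ {B : CommRingCat.{u}} (t : Spec B ⟶ W), (grFun.{u} (Fin m ⊕ Fin d.m) d.m).obj B := fun {B} t =>
    letI : Algebra R B := (ρ t).hom.toAlgebra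
    grPt (mat c i d e (gOf t)) (hsurj _)
  have hq : ∀ {B : Type u} [CommRing B] [inst : Algebra R B] (t : Spec (CommRingCat.of B) ⟶ W) (g : tB s B ⟶ G),
      g.left = t ≫ w → qOf t = grPt (B := CommRingCat.of B) (mat c i d e g) (hsurj g) := by
    intro B _ inst t g hg
    have h1 : CommRingCat.ofHom (algebraMap R B) = ρ t := by
      apply Spec.map_injective
      rw [← cancel_mono s, hρ, Category.assoc, ← hw, ← Category.assoc, ← hg, Over.w]
      rfl
    have h2 : inst = (ρ t).hom.toAlgebra := Algebra.algebra_ext _ _ fun x =>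
      congrArg (fun f => CommRingCat.Hom.hom f x) h1
    subst h2
    have h3 : g = gOf t := Over.OverMorphism.ext hg
    subst h3
    rfl
  let F : Fam (grFun.{u} (Fin m ⊕ Fin d.m) d.m) W :=
    { q := fun t => qOf t
      nat := by
        intro B C φ t
        let _ : Algebra R B := (ρ t).hom.toAlgebra
        let _ : Algebra R C := (φ.hom.comp (ρ t).hom).toAlgebra
        let φ' : B →ₐ[R] C := { φ.hom with commutes' := fun r => rfl }
        have h1 : (tMap s φ' ≫ gOf t).left = (Spec.map φ ≫ t) ≫ w := by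
          rw [Over.comp_left, Category.assoc]
          rfl
        rw [hq (B := C) (Spec.map φ ≫ t) (tMap s φ' ≫ gOf t) h1]
        change _ = (grFun.{u} (Fin m ⊕ Fin d.m) d.m).map φ (grPt (mat c i d e (gOf t)) (hsurj _))
        rw [map_grPt]
        apply (grPt_eq_iff _ _ _ _).2
        congr 1
        exact mat_map c i d e φ' (gOf t) }
  obtain ⟨f, hf⟩ := r.fam_surjective F
  have hf' : ∀ {B : CommRingCat.{u}} (t : Spec B ⟶ W), r.e B (t ≫ f) = qOf t := fun t =>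
    congrArg (fun x => Fam.q x t) hf
  refine ⟨M, f ≫ p, fun B _ _ a b g g' ha hb => ?_⟩
  rw [infStab_iff_st i d, ← Category.assoc, ← Category.assoc, cancel_mono,
    ← (r.e (CommRingCat.of B)).injective.eq_iff, hf', hf', hq a g ha, hq b g' hb, grPt_eq_iff,
    ← kerM_mat_le_iff c i d e he]
  exact ⟨fun h => h.le, fun h => Level.kerM_eq_of_le (hsurj g) (hsurj g') h⟩

end Orb

variable (i : H ⟶ G) (n : N ⟶ G)

/-- **The local orbit map.** -/
theorem exists_local [IsMonHom i] [Mono i] [LocallyOfFiniteType G.hom] [QuasiCompact G.hom] [QuasiSeparated G.hom]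
    [Smooth H.hom] [QuasiCompact H.hom]
    [QuasiSeparated H.hom] (hconn : ∀ s : S, _root_.IsConnected (H.hom.base ⁻¹' {s}))
    (hN : Red.IsNormalizerOf i n) (x : S) :
    ∃ V : S.Opens, IsAffineOpen V ∧ x ∈ V ∧ ∃ (m : ℕ) (F : (G.hom ⁻¹ᵁ V).toScheme ⟶ CohB1.ProjSpaceOver m V),
      F ≫ CohB1.ProjSpaceOver.toBase m V = G.hom ∣_ V ∧
      ∀ {T : Scheme.{u}} (a b : T ⟶ (G.hom ⁻¹ᵁ V).toScheme),
        a ≫ F = b ≫ F ↔ Rel (tN n) (sN n) (a ≫ (G.hom ⁻¹ᵁ V).ι) (b ≫ (G.hom ⁻¹ᵁ V).ι) := by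
  obtain ⟨V, hV, c, hxV, hft, hd⟩ := exists_data (G := G) (H := H) x
  have hn1 : IsMonHom n := hN.1
  have hn2 : Mono n := hN.2.1
  refine ⟨V, hV, hxV, ?_⟩
  obtain ⟨k, hk, hlev⟩ := exists_level i n hV c hconn hN hd
  let W : G.left.Opens := G.hom ⁻¹ᵁ V
  have hι : V.ι = hV.isoSpec.hom ≫ hV.fromSpec := by
    rw [← IsAffineOpen.isoSpec_inv_ι, Iso.hom_inv_id_assoc]
  let π : W.toScheme ⟶ Spec Γ(S, V) := (G.hom ∣_ V) ≫ hV.isoSpec.hom
  have hπ : W.ι ≫ G.hom = π ≫ hV.fromSpec := by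
    rw [Category.assoc, ← hι, morphismRestrict_ι]
  obtain ⟨m, f, hf⟩ := exists_orbMap c i (hd k hk).some W.ι π hπ
  let F : W.toScheme ⟶ CohB1.ProjSpaceOver m V := pullback.lift f (G.hom ∣_ V)
    (specULiftZIsTerminal.hom_ext _ _)
  have hF1 : F ≫ CohB1.ProjSpaceOver.toBase m V = G.hom ∣_ V := pullback.lift_snd _ _ _
  have hF2 : F ≫ pullback.fst _ _ = f := pullback.lift_fst _ _ _
  refine ⟨m, F, hF1, fun {T} a b => ?_⟩
  refine rel_iff_of_affine (isERel n) W.ι F (fun B a b => ?_) a b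
  have hFab : a ≫ F = b ≫ F ↔ a ≫ f = b ≫ f ∧ a ≫ (G.hom ∣_ V) = b ≫ (G.hom ∣_ V) := by
    constructor
    · intro h
      refine ⟨?_, ?_⟩
      · have h1 := congrArg (fun z => z ≫ pullback.fst (CohB1.ProjSpace.toSpec m (ULift.{u} ℤ))
          (specULiftZIsTerminal.from V.toScheme)) h
        change (a ≫ F) ≫ pullback.fst _ _ = (b ≫ F) ≫ pullback.fst _ _ at h1
        erw [Category.assoc, Category.assoc, hF2] at h1
        exact h1
      · have h1 := congrArg (fun z => z ≫ CohB1.ProjSpaceOver.toBase m V) h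
        change (a ≫ F) ≫ CohB1.ProjSpaceOver.toBase m V = (b ≫ F) ≫ CohB1.ProjSpaceOver.toBase m V at h1
        rw [Category.assoc, Category.assoc, hF1] at h1
        exact h1
    · rintro ⟨h1, h2⟩
      apply pullback.hom_ext
      · erw [Category.assoc, Category.assoc, hF2]
        exact h1
      · have h3 : (a ≫ F) ≫ CohB1.ProjSpaceOver.toBase m V = (b ≫ F) ≫ CohB1.ProjSpaceOver.toBase m V := by
          rw [Category.assoc, Category.assoc, hF1]
          exact h2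
        exact h3
  have hVab : a ≫ (G.hom ∣_ V) = b ≫ (G.hom ∣_ V) ↔ (a ≫ W.ι) ≫ G.hom = (b ≫ W.ι) ≫ G.hom := by
    rw [← cancel_mono V.ι, Category.assoc, Category.assoc, Category.assoc, Category.assoc, morphismRestrict_ι]
  have key : (a ≫ W.ι) ≫ G.hom = (b ≫ W.ι) ≫ G.hom → (a ≫ f = b ≫ f ↔
      Rel (tN n) (sN n) (a ≫ W.ι) (b ≫ W.ι)) := by
    intro h
    obtain ⟨ρ, hρ⟩ := Spec.map_surjective (a ≫ π)
    let _ : Algebra Γ(S, V) B := ρ.hom.toAlgebra
    have ha : (a ≫ W.ι) ≫ G.hom = (tB hV.fromSpec B).hom := by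
      rw [Category.assoc, hπ, ← Category.assoc, ← hρ]
      rfl
    let g : tB hV.fromSpec B ⟶ G := Over.homMk (a ≫ W.ι) ha
    let g' : tB hV.fromSpec B ⟶ G := Over.homMk (b ≫ W.ι) (h.symm.trans ha)
    have h1 := hf B a b g g' rfl rfl
    have h2 := hlev B (g⁻¹ * g')
    rw [← rel_over_iff n] at h2
    rw [h1, ← h2]
    rfl
  rw [hFab, hVab]
  exact ⟨fun h => (key h.2).1 h.1, fun h => ⟨(key (rel_hom n h)).2 h, rel_hom n h⟩⟩

end K983.NormChart
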